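import Groth.Agent.PointDetect7.Local
import Groth.Agent.KFlatLib.Scheme.TildePerf
import Groth.Agent.KFlatLib.Scheme.RHomLocal
import Groth.Agent.KFlatLib.Ring.HasRHom
import Groth.Agent.RHomO7.AffineDuality
import Groth.Agent.PerfGen7.HasRHom
import Groth.Agent.H9Misc.DRingPC

/-!
# Degreewise point detection on schemes
-/

set_option autoImplicit false
set_option backward.isDefEq.respectTransparency false
set_option linter.style.haveILetI false
set_option maxHeartbeats 1000000
universe u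
open CategoryTheory CategoryTheory.Limits AlgebraicGeometry TopologicalSpace Pretriangulated
attribute [local instance] HasDerivedCategory.standard

namespace Groth.Agent.PointDetect7
open KFlatLib

variable {X : Scheme.{u}} {U : Scheme.{u}} (j : U ⟶ X) [IsOpenImmersion j]

/-- maps out of a module supported in the open extend -/
theorem hom_chart_src (M : X.Modules) (hoff : ∀ z, z ∉ Set.range j.base → Subsingleton (M.presheaf.stalk z))
    (K : DCoh.D X) (h : ∀ φ : DCoh.inD X M ⟶ K, φ = 0) (ψ : (rho j).obj (DCoh.inD X M) ⟶ (rho j).obj K) :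
    ψ = 0 := by
  let ad := H9Misc.TelLocal.derivedAdjunction (lshAdj j)
  haveI := isIso_counit_of_support j M hoff
  let c0 : (lsh j).mapDerivedCategory.obj ((rho j).obj (DCoh.inD X M)) ≅ DCoh.inD X M :=
    (lsh j).mapDerivedCategory.mapIso
        (((Scheme.Modules.restrictFunctor j).mapDerivedCategorySingleFunctor 0).app M) ≪≫
      ((lsh j).mapDerivedCategorySingleFunctor 0).app _ ≪≫
      (DerivedCategory.singleFunctor _ 0).mapIso (asIso ((lshAdj j).counit.app M))
  apply (ad.homEquiv _ _).symm.injective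
  rw [← cancel_epi c0.inv, h (c0.inv ≫ _), Adjunction.homEquiv_counit _ _ _ (0 : _ ⟶ _)]
  simp

/-- maps into a shifted skyscraper extend from an open containing the point -/
theorem hom_chart_tgt (y : U) (hy : IsClosed ({j.base y} : Set X)) (M : X.Modules)
    (hoff : ∀ z, z ≠ j.base y → Subsingleton (M.presheaf.stalk z))
    (K : DCoh.D X) (n : ℤ) (h : ∀ φ : K ⟶ (shiftFunctor (DCoh.D X) n).obj (DCoh.inD X M), φ = 0)
    (ψ : (rho j).obj K ⟶ (rho j).obj ((shiftFunctor (DCoh.D X) n).obj (DCoh.inD X M))) : ψ = 0 := by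
  set x := j.base y
  let ad := H9Misc.TelLocal.derivedAdjunction (lshAdj j)
  let C := DerivedCategory.Q.objPreimage K
  let eK : DerivedCategory.Q.obj C ≅ K := DerivedCategory.Q.objObjPreimageIso K
  let L := (lshCx j).obj ((rCx j).obj C)
  let f : DerivedCategory.Q.obj L ⟶ K := DerivedCategory.Q.map ((lshCxAdj j).counit.app C) ≫ eK.hom
  let F := (DerSch.stalkFunctor X x).mapDerivedCategory
  haveI : IsIso (F.map f) := by
    haveI h1 := isIso_rCx_map_lshCx_counit j C
    haveI : IsIso (((DerSch.stalkFunctor X x).mapHomologicalComplex (ComplexShape.up ℤ)).map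
        ((lshCxAdj j).counit.app C)) := by
      haveI : ∀ i, IsIso ((((DerSch.stalkFunctor X x).mapHomologicalComplex (ComplexShape.up ℤ)).map
          ((lshCxAdj j).counit.app C)).f i) := fun i => by
        haveI : IsIso (((rCx j).map ((lshCxAdj j).counit.app C)).f i) :=
          inferInstanceAs (IsIso ((HomologicalComplex.eval _ _ i).map ((rCx j).map ((lshCxAdj j).counit.app C))))
        have hb := ConcreteCategory.bijective_of_isIso ((DerSch.stalkFunctor U y).map
          (((rCx j).map ((lshCxAdj j).counit.app C)).f i))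
        exact (ConcreteCategory.isIso_iff_bijective _).2
          ⟨injective_stalk_of_restrict j _ y hb.1, surjective_stalk_of_restrict j _ y hb.2⟩
      exact HomologicalComplex.Hom.isIso_of_components _
    haveI : IsIso (F.map (DerivedCategory.Q.map ((lshCxAdj j).counit.app C))) :=
      (NatIso.isIso_map_iff (DerSch.stalkFunctor X x).mapDerivedCategoryFactors _).2
        (inferInstanceAs (IsIso (DerivedCategory.Q.map
          (((DerSch.stalkFunctor X x).mapHomologicalComplex (ComplexShape.up ℤ)).map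
            ((lshCxAdj j).counit.app C)))))
    simp only [f, Functor.map_comp]
    infer_instance
  obtain ⟨Z, g, d, hT⟩ := distinguished_cocone_triangle f
  have hZ : IsZero (F.obj Z) :=
    (Triangle.isZero₃_iff_isIso₁ _ (F.map_distinguished _ hT)).2 (inferInstanceAs (IsIso (F.map f)))
  let N : ModuleCat.{u} (X.presheaf.stalk x) := (DerSch.stalkFunctor X x).obj M
  haveI := (PointHom7.sky_preserves (X := X) x).1
  haveI := (PointHom7.sky_preserves (X := X) x).2
  obtain ⟨eM⟩ := PointHom7.nonempty_iso_sky x hy M hoff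
  let cM : (shiftFunctor (DCoh.D X) n).obj (DCoh.inD X M) ≅
      ((DerivedCategory.singleFunctor X.Modules 0).obj ((KFlatLib.sky x).obj N))⟦n⟧ :=
    (shiftFunctor (DCoh.D X) n).mapIso ((DerivedCategory.singleFunctor X.Modules 0).mapIso eM)
  have hext : ∀ χ : DerivedCategory.Q.obj L ⟶ (shiftFunctor (DCoh.D X) n).obj (DCoh.inD X M), χ = 0 := by
    intro χ
    let T := (Triangle.mk f g d).invRotate
    have hz : ∀ (W : DCoh.D X), IsZero (F.obj W) →
        ∀ θ : W ⟶ (shiftFunctor (DCoh.D X) n).obj (DCoh.inD X M), θ = 0 := by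
      intro W hW θ
      obtain ⟨e, he⟩ := PointHom7.exists_homEquiv x N W n
      rw [← cancel_mono cM.hom, zero_comp]
      exact e.injective (hW.eq_of_src _ _)
    have h0 : T.mor₁ ≫ χ = 0 := hz _
      ((Functor.map_isZero (shiftFunctor _ (-1 : ℤ)) hZ).of_iso ((F.commShiftIso (-1 : ℤ)).app Z)) _
    obtain ⟨φ, hφ⟩ := Triangle.yoneda_exact₂ T (inv_rot_of_distTriang _ hT) χ h0
    rw [hφ, h φ, comp_zero]
  let c : (lsh j).mapDerivedCategory.obj ((rho j).obj K) ≅ DerivedCategory.Q.obj L :=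
    (lsh j).mapDerivedCategory.mapIso ((rho j).mapIso eK.symm ≪≫ (rhoQ j).app C) ≪≫
      (lsh j).mapDerivedCategoryFactors.app _
  apply (ad.homEquiv _ _).symm.injective
  rw [← cancel_epi c.inv, hext (c.inv ≫ _), Adjunction.homEquiv_counit _ _ _ (0 : _ ⟶ _)]
  simp

/-- zero maps on a chart give zero maps between the models -/
lemma killed_of_models {R : CommRingCat.{u}} [PreservesFiniteLimits (tilde.functor R)]
    [PreservesFiniteColimits (tilde.functor R)] {m : Ideal R} [m.IsMaximal] {Q : ModuleCat.{u} R}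
    {ι : (R ⧸ m) →ₗ[R] Q} {π : Q →ₗ[R] (R ⧸ m)} (hιπ : π ∘ₗ ι = LinearMap.id)
    (Y : DerivedCategory (ModuleCat.{u} R)) :
    ((∀ φ : (DerivedCategory.singleFunctor (ModuleCat.{u} R) 0).obj Q ⟶ Y, φ = 0) →
      Killed m (quotD m) Y) ∧
    ((∀ φ : Y ⟶ (DerivedCategory.singleFunctor (ModuleCat.{u} R) 0).obj Q, φ = 0) →
      Killed m Y (quotD m)) := by
  let S := DerivedCategory.singleFunctor (ModuleCat.{u} R) 0
  have hm : (1 : R) ∉ m := m.ne_top_iff_one.1 (Ideal.IsMaximal.ne_top ‹_›)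
  have hid : S.map (ModuleCat.ofHom ι) ≫ S.map (ModuleCat.ofHom π) = 𝟙 _ := by
    rw [← Functor.map_comp, ← ModuleCat.ofHom_comp, hιπ]
    exact S.map_id _
  refine ⟨fun h φ => ⟨1, hm, ?_⟩, fun h φ => ⟨1, hm, ?_⟩⟩
  · rw [one_smul]
    calc φ = S.map (ModuleCat.ofHom ι) ≫ S.map (ModuleCat.ofHom π) ≫ φ := by
          rw [← Category.assoc, hid, Category.id_comp]
      _ = 0 := by rw [h (S.map (ModuleCat.ofHom π) ≫ φ), comp_zero]
  · rw [one_smul]
    calc φ = (φ ≫ S.map (ModuleCat.ofHom ι)) ≫ S.map (ModuleCat.ofHom π) := by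
          rw [Category.assoc, hid, Category.comp_id]
      _ = 0 := by rw [h (φ ≫ S.map (ModuleCat.ofHom ι)), zero_comp]

/-- **Degreewise detection by maps from the point.** -/
theorem notMem_support_sub [IsLocallyNoetherian X] (x : X) (hx : IsClosed ({x} : Set X))
    [IsRegularLocalRing (X.presheaf.stalk x)] (d : ℕ) (hd : ringKrullDim (X.presheaf.stalk x) = d)
    (K : DCoh.D X) (hK : DCoh.IsCohD K) (a : ℤ) [K.IsGE a] (i : ℤ)
    (h : ∀ φ : DCoh.inD X ((Coh.push (X.fromSpecResidueField x)).obj (Coh.structureModule _)) ⟶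
      (shiftFunctor (DCoh.D X) i).obj K, φ = 0) :
    x ∉ CohB1.support (DCoh.HD K (i - d)) := by
  obtain ⟨hoff, -, -⟩ := PointHom7.point_sheaf x hx
  obtain ⟨R, hR, j, hj, y, hyx, hmax, l, Q, hl, hreg, hsat, ⟨eQ⟩, ι, π, hιπ⟩ := exists_model x hx d hd
  haveI : IsLocallyNoetherian (Spec R) := isLocallyNoetherian_of_isOpenImmersion j
  haveI : PreservesFiniteLimits (tilde.functor R) := QCoh.tilde_preservesFiniteLimits (R := R)
  haveI : PreservesFiniteColimits (tilde.functor R) := QCoh.tilde_preservesFiniteColimits (R := R)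
  obtain ⟨E, ⟨eE⟩⟩ := exists_tildeD_iso (isQCohD_rho j (isCohD_isQCohD hK))
  let eH : ∀ n, (tilde.functor R).obj ((DerivedCategory.homologyFunctor (ModuleCat.{u} R) n).obj E) ≅
      (Scheme.Modules.restrictFunctor j).obj (DCoh.HD K n) := fun n =>
    ((mapDCHomologyIso (tilde.functor R) n).app E).symm ≪≫
      (DerivedCategory.homologyFunctor _ n).mapIso eE ≪≫ restrictHDIso j K n
  have hfin : ∀ n, Module.Finite R ((DerivedCategory.homologyFunctor (ModuleCat.{u} R) n).obj E) :=
    fun n => (isCoh_tilde_iff _).1 (isCoh_of_iso (eH n).symm (isCoh_restrict j (hK n)))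
  haveI : E.IsGE a := (DerivedCategory.isGE_iff _ _).2 fun n hn => (IsZero.iff_id_eq_zero _).2
    ((tilde.functor R).map_injective (IsZero.eq_of_src
      ((Functor.map_isZero (Scheme.Modules.restrictFunctor j)
        (DerivedCategory.isZero_of_isGE K a n hn)).of_iso (eH n)) _ _))
  have hQ : ∀ φ : (DerivedCategory.singleFunctor (ModuleCat.{u} R) 0).obj Q ⟶
      (shiftFunctor (DerivedCategory (ModuleCat.{u} R)) i).obj E, φ = 0 := by
    intro φ
    apply (tildeD_map_bijective _ _).1
    rw [Functor.map_zero]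
    let a0 : (rho j).obj (DCoh.inD X ((Coh.push (X.fromSpecResidueField x)).obj (Coh.structureModule _))) ≅
        (DCoh.tildeD R).obj ((DerivedCategory.singleFunctor (ModuleCat.{u} R) 0).obj Q) :=
      ((Scheme.Modules.restrictFunctor j).mapDerivedCategorySingleFunctor 0).app _ ≪≫
        (DerivedCategory.singleFunctor _ 0).mapIso eQ.symm ≪≫
          (((tilde.functor R).mapDerivedCategorySingleFunctor 0).app Q).symm
    let b0 : (rho j).obj ((shiftFunctor (DCoh.D X) i).obj K) ≅
        (DCoh.tildeD R).obj ((shiftFunctor (DerivedCategory (ModuleCat.{u} R)) i).obj E) :=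
      ((rho j).commShiftIso i).app K ≪≫ (shiftFunctor _ i).mapIso eE.symm ≪≫
        (((DCoh.tildeD R).commShiftIso i).app E).symm
    have hψ := hom_chart_src j _ (fun z hz => hoff z fun hzx => hz ⟨y, hyx.trans hzx.symm⟩) _ h
      (a0.hom ≫ (DCoh.tildeD R).map φ ≫ b0.inv)
    rwa [Preadditive.IsIso.comp_left_eq_zero, Preadditive.IsIso.comp_right_eq_zero] at hψ
  intro hsupp
  apply hsupp
  subst hyx
  refine (subsingleton_stalk_restrict_iff j _ y).1 ((subsingleton_stalk_of_iso (eH (i - d)) y).1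
    ((subsingleton_stalk_tilde_iff _ y).2 ?_))
  rw [← hl]
  exact fun v => killed_src (y : PrimeSpectrum R).asIdeal l hreg hsat E a hfin i
    ((killed_of_models hιπ _).1 hQ) v

/-- restriction of derived sheaf hom to an open -/
theorem nonempty_rho_RSheafHom (K : CochainComplex X.Modules ℤ) [DCoh.HasLTensorCx K] [DCoh.HasRSheafHom K]
    [DCoh.HasLTensorCx ((rCx j).obj K)] [DCoh.HasRSheafHom ((rCx j).obj K)] (M : DCoh.D X) :
    Nonempty ((rho j).obj ((DCoh.RSheafHom K).obj M) ≅
      (DCoh.RSheafHom ((rCx j).obj K)).obj ((rho j).obj M)) := by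
  obtain ⟨I, hI, hinj, ⟨eM⟩⟩ := exists_kInjective_rep M
  haveI := hI
  haveI : ((rCx j).obj I).IsKInjective := isKInjective_rCx j I
  haveI : ∀ n, Injective (((rCx j).obj I).X n) := injective_rCx j I
  obtain ⟨e⟩ := nonempty_RSheafHom_iso K I
  obtain ⟨e'⟩ := nonempty_RSheafHom_iso ((rCx j).obj K) ((rCx j).obj I)
  obtain ⟨e₁⟩ := nonempty_rho_iHom j K I
  exact ⟨(rho j).mapIso ((DCoh.RSheafHom K).mapIso eM ≪≫ e) ≪≫ e₁ ≪≫ e'.symm ≪≫
    (DCoh.RSheafHom ((rCx j).obj K)).mapIso (((rhoQ j).app I).symm ≪≫ (rho j).mapIso eM.symm)⟩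

/-- **Degreewise detection of the dual by maps into the point.** -/
theorem notMem_support_dual [IsLocallyNoetherian X] (x : X) (hx : IsClosed ({x} : Set X))
    [IsRegularLocalRing (X.presheaf.stalk x)] (d : ℕ) (hd : ringKrullDim (X.presheaf.stalk x) = d)
    (E : CochainComplex X.Modules ℤ) (hE : DCoh.IsPerfect (DCoh.toD X E))
    [DCoh.HasLTensorCx E] [DCoh.HasRSheafHom E] (i : ℤ)
    (h : ∀ φ : DCoh.toD X E ⟶ (shiftFunctor (DCoh.D X) i).obj
      (DCoh.inD X ((Coh.push (X.fromSpecResidueField x)).obj (Coh.structureModule _))), φ = 0) :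
    x ∉ CohB1.support (DCoh.HD ((DCoh.RSheafHom E).obj (DCoh.inD X (Coh.structureModule X))) i) := by
  obtain ⟨hoff, -, -⟩ := PointHom7.point_sheaf x hx
  obtain ⟨R, hR, j, hj, y, hyx, hmax, l, Q, hl, hreg, hsat, ⟨eQ⟩, ι, π, hιπ⟩ := exists_model x hx d hd
  subst hyx
  haveI : IsLocallyNoetherian (Spec R) := isLocallyNoetherian_of_isOpenImmersion j
  haveI : PreservesFiniteLimits (tilde.functor R) := QCoh.tilde_preservesFiniteLimits (R := R)
  haveI : PreservesFiniteColimits (tilde.functor R) := QCoh.tilde_preservesFiniteColimits (R := R)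
  haveI := KFlatLib.hasLTen (A := R)
  haveI := KFlatLib.hasRHom (A := R)
  have hperf : DCoh.IsPerfect ((rho j).obj (DCoh.toD X E)) :=
    (KFlatLib.isPerfect_iff _).2 (((KFlatLib.isPerfect_iff _).1 hE).restrict' j)
  have hq : DCoh.IsQCohD ((rho j).obj (DCoh.toD X E)) := fun n =>
    KFlatLib.isQCoh_HD_of_pseudoCoherent ((KFlatLib.isPseudoCoherentD_iff _ _).2
      (((KFlatLib.isPerfect_iff _).1 hperf).locPC (n - 1))) n (by omega)
  obtain ⟨X0, ⟨eX⟩⟩ := exists_tildeD_iso hq
  have hX0 : DRing.IsPerfect R X0 :=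
    rperf_of_locSP (((KFlatLib.isPerfect_iff _).1 hperf).of_iso eX.symm)
  let C0 := DerivedCategory.Q.objPreimage X0
  let eC : DerivedCategory.Q.obj C0 ≅ X0 := DerivedCategory.Q.objObjPreimageIso X0
  -- maps to the point vanish on the chart
  let S := DerivedCategory.singleFunctor (ModuleCat.{u} R) 0
  have hQ : ∀ φ : X0⟦-i⟧ ⟶ S.obj Q, φ = 0 := by
    intro φ
    let b : (X0⟦-i⟧)⟦i⟧ ≅ X0 := (shiftFunctorCompIsoId _ (-i) i (neg_add_cancel i)).app X0
    apply (shiftFunctor (DerivedCategory (ModuleCat.{u} R)) i).map_injective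
    rw [Functor.map_zero, ← cancel_epi b.inv, comp_zero]
    apply (tildeD_map_bijective _ _).1
    rw [Functor.map_zero]
    let a0 : (rho j).obj (DCoh.toD X E) ≅ (DCoh.tildeD R).obj X0 := eX.symm
    let b0 : (rho j).obj ((shiftFunctor (DCoh.D X) i).obj
          (DCoh.inD X ((Coh.push (X.fromSpecResidueField (j.base y))).obj (Coh.structureModule _)))) ≅
        (DCoh.tildeD R).obj ((shiftFunctor (DerivedCategory (ModuleCat.{u} R)) i).obj (S.obj Q)) :=
      ((rho j).commShiftIso i).app _ ≪≫ (shiftFunctor _ i).mapIso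
        (((Scheme.Modules.restrictFunctor j).mapDerivedCategorySingleFunctor 0).app _ ≪≫
          (DerivedCategory.singleFunctor _ 0).mapIso eQ.symm ≪≫
            (((tilde.functor R).mapDerivedCategorySingleFunctor 0).app Q).symm) ≪≫
        (((DCoh.tildeD R).commShiftIso i).app (S.obj Q)).symm
    have hψ := hom_chart_tgt j y hx _ hoff _ i h
      (a0.hom ≫ (DCoh.tildeD R).map (b.inv ≫ φ⟦i⟧') ≫ b0.inv)
    rwa [Preadditive.IsIso.comp_left_eq_zero, Preadditive.IsIso.comp_right_eq_zero] at hψ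
  have key := killed_tgt (y : PrimeSpectrum R).asIdeal l hreg hsat _
    (H9Misc.DRingPC.isPerfect_shift hX0 (-i)) ((killed_of_models hιπ _).2 hQ)
  -- the dual on the chart
  haveI := hasLTensorCx ((rCx j).obj E)
  haveI := PerfGen7.hasRSheafHom ((rCx j).obj E)
  obtain ⟨e₁⟩ := nonempty_rho_RSheafHom j E (DCoh.inD X (Coh.structureModule X))
  let Y0 := S.obj (ModuleCat.of R R)
  let eY : (DCoh.tildeD R).obj Y0 ≅ (rho j).obj (DCoh.inD X (Coh.structureModule X)) :=
    ((tilde.functor R).mapDerivedCategorySingleFunctor 0).app _ ≪≫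
      (DerivedCategory.singleFunctor _ 0).mapIso (tildeSelf ≪≫ (restrictStructureIso j).symm) ≪≫
      (((Scheme.Modules.restrictFunctor j).mapDerivedCategorySingleFunctor 0).app _).symm
  have hperf' : DCoh.IsPerfect (DCoh.toD _ ((rCx j).obj E)) :=
    (KFlatLib.isPerfect_iff _).2 (((KFlatLib.isPerfect_iff _).1 hperf).of_iso ((rhoQ j).app E))
  obtain ⟨e₂⟩ := RHomO7.AffineDuality.nonempty_RSheafHom_iso_of_isQCohD C0 Y0 ((rCx j).obj E)
    ⟨((rhoQ j).app E).symm ≪≫ eX.symm ≪≫ (DCoh.tildeD R).mapIso eC.symm⟩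
    (isQCohD_RSheafHom_of_isPerfect _ hperf' _ (isQCohD_tildeD (R := R) Y0))
  obtain ⟨u⟩ := exists_hdRHomLEquiv (A := R) (DRing.toD C0) Y0 i
  let eH : (tilde.functor R).obj ((DerivedCategory.homologyFunctor (ModuleCat.{u} R) i).obj
      ((DTen.RHomR R (DRing.toD C0)).obj Y0)) ≅
      (Scheme.Modules.restrictFunctor j).obj
        (DCoh.HD ((DCoh.RSheafHom E).obj (DCoh.inD X (Coh.structureModule X))) i) :=
    ((mapDCHomologyIso (tilde.functor R) i).app _).symm ≪≫
      (DerivedCategory.homologyFunctor _ i).mapIso (e₂.symm ≪≫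
        (DCoh.RSheafHom ((rCx j).obj E)).mapIso eY ≪≫ e₁.symm) ≪≫ restrictHDIso j _ i
  intro hsupp
  apply hsupp
  refine (subsingleton_stalk_restrict_iff j _ y).1 ((subsingleton_stalk_of_iso eH y).1
    ((subsingleton_stalk_tilde_iff _ y).2 fun v => ?_))
  obtain ⟨r, hr, h0⟩ := (key.of_iso ((shiftFunctor _ (-i)).mapIso eC.symm) (Iso.refl _)) (u v)
  exact ⟨r, hr, u.injective (by rw [map_smul, h0, map_zero])⟩

end Groth.Agent.PointDetect7
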