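import Groth.Agent.Diag7.Main
import Groth.Agent.FMKLib7.CohSupp
import Groth.Agent.PerfGen7.TensorModCx

/-!
# Hypercohomology of the derived tensor product with a point sheaf
-/

set_option autoImplicit false
set_option backward.isDefEq.respectTransparency false
set_option linter.style.haveILetI false
universe u
open CategoryTheory CategoryTheory.Limits AlgebraicGeometry
attribute [local instance] HasDerivedCategory.standard

namespace Groth.Agent.PointDetect7
open KFlatLib

/-- Vanishing of `H^i(X, K ⊗ O_x)` gives vanishing of the stalk of `H^i K` at the closed point `x`. -/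
theorem notMem_support_of_RΓ {X : Scheme.{u}} (x : X) (hx : IsClosed ({x} : Set X))
    (K : DCoh.D X) (hK : DCoh.IsPerfect K)
    [DCoh.HasLTensorMod ((Coh.push (X.fromSpecResidueField x)).obj (Coh.structureModule _))] [DCoh.HasRΓ X] (i : ℤ)
    (h : IsZero ((DerivedCategory.homologyFunctor AddCommGrpCat.{u} i).obj
      ((DCoh.RΓ X).obj ((DCoh.LTensorMod ((Coh.push (X.fromSpecResidueField x)).obj (Coh.structureModule _))).obj K)))) :
    x ∉ CohB1.support (DCoh.HD K i) := by
  set g := X.fromSpecResidueField x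
  haveI : IsClosedImmersion g := IsClosedImmersion.of_isPreimmersion g (by
    rw [Scheme.range_fromSpecResidueField]; exact hx)
  haveI := hasRpush_scheme g
  haveI := hasLpull g
  haveI := FMKLib7.hasRΓ (Spec (X.residueField x))
  haveI := hasLTensorCx (PerfGen7.degZero ((Scheme.Modules.pushforward g).obj (Coh.structureModule _)))
  obtain ⟨a⟩ := PerfGen7.nonempty_LTensorMod_iso ((Scheme.Modules.pushforward g).obj (Coh.structureModule _)) K
  obtain ⟨b⟩ := Diag7.nonempty_ltensor_push_structure g
  obtain ⟨c⟩ := nonempty_rpush_RΓ_iso g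
  haveI : Subsingleton (Spec (X.residueField x)) := inferInstanceAs (Subsingleton (PrimeSpectrum (X.residueField x)))
  have h' := h.of_iso ((DerivedCategory.homologyFunctor AddCommGrpCat.{u} i).mapIso
    ((c.app ((DCoh.Lpull g).obj K)).symm ≪≫ (DCoh.RΓ X).mapIso (a ≪≫ b.app K).symm))
  rw [FMKLib7.isZero_RΓ_onePoint (default : Spec (X.residueField x))] at h'
  exact fun hs => hs (FMKLib7.subsingleton_stalk_of_isZero_fibre hK x h')

/-- A point outside a closed support has a neighbourhood avoiding it. -/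
theorem exists_nhd_of_notMem {X : Scheme.{u}} {M : X.Modules} (hM : Coh.IsCoh M) {x : X}
    (hx : x ∉ CohB1.support M) : ∃ U : X.Opens, x ∈ U ∧ ∀ y : X, y ∈ U → y ∉ CohB1.support M :=
  ⟨⟨(CohB1.support M)ᶜ, (QCoh.isClosed_support_of_isFT hM.1 hM.2).isOpen_compl⟩, hx, fun _ hy => hy⟩

/-- Finitely many supports avoid a neighbourhood of a point outside all of them. -/
theorem exists_nhd_of_forall {X : Scheme.{u}} {K : DCoh.D X} (hK : DCoh.IsCohD K) (a b : ℤ) [K.IsGE a]
    [K.IsLE b] {x : X} (hx : ∀ i, x ∉ CohB1.support (DCoh.HD K i)) :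
    ∃ U : X.Opens, x ∈ U ∧ ∀ (i : ℤ) (y : X), y ∈ U → y ∉ CohB1.support (DCoh.HD K i) := by
  let Z : Set X := ⋃ i ∈ Set.Icc a b, CohB1.support (DCoh.HD K i)
  have hZ : IsClosed Z := Set.Finite.isClosed_biUnion (Set.finite_Icc a b) fun i _ =>
    QCoh.isClosed_support_of_isFT (hK i).1 (hK i).2
  refine ⟨⟨Zᶜ, hZ.isOpen_compl⟩, fun hxZ => ?_, fun i y hy hyi => hy ?_⟩
  · obtain ⟨i, -, hi⟩ := Set.mem_iUnion₂.1 hxZ
    exact hx i hi
  · refine Set.mem_iUnion₂.2 ⟨i, Set.mem_Icc.2 ⟨?_, ?_⟩, hyi⟩
    · by_contra hlt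
      exact hyi (ModuleCat.subsingleton_of_isZero ((DerSch.stalkFunctor X y).map_isZero
        (DerivedCategory.isZero_of_isGE K a i (by omega))))
    · by_contra hlt
      exact hyi (ModuleCat.subsingleton_of_isZero ((DerSch.stalkFunctor X y).map_isZero
        (DerivedCategory.isZero_of_isLE K b i (by omega))))

end Groth.Agent.PointDetect7
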