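import Groth.Agent.PointDetect7.RegSeq
import Groth.Agent.S0559
import Mathlib.RingTheory.Localization.Ideal
import Mathlib.RingTheory.RegularLocalRing.Defs
import Mathlib.Algebra.Module.SpanRankOperations

/-!
# Parameters at a point with regular local ring
-/

set_option autoImplicit false
set_option linter.style.haveILetI false
universe u

namespace Groth.Agent.PointDetect7

variable {A : Type u} [CommRing A] [IsNoetherianRing A] (m : Ideal A) [m.IsMaximal]

lemma mem_sat_iff (J : Ideal A) (x : A) : x ∈ sat m J ↔
    algebraMap A (Localization.AtPrime m) x ∈ J.map (algebraMap A (Localization.AtPrime m)) :=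
  (IsLocalization.algebraMap_mem_map_algebraMap_iff m.primeCompl (Localization.AtPrime m) J x).symm

/-- Generators of the maximal ideal at a regular point, as a regular sequence at the point. -/
theorem exists_regularAt (d : ℕ) [IsRegularLocalRing (Localization.AtPrime m)]
    (hd : ringKrullDim (Localization.AtPrime m) = d) :
    ∃ l : List A, l.length = d ∧ RegularAt m l ∧ sat m (Ideal.ofList l) = m := by
  set L := Localization.AtPrime m
  have hr : ((IsLocalRing.maximalIdeal L).spanFinrank : WithBot ℕ∞) = d :=
    IsRegularLocalRing.spanFinrank_maximalIdeal.trans hd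
  have hr' : (IsLocalRing.maximalIdeal L).spanFinrank = d := by exact_mod_cast hr
  obtain ⟨s, hsc, hs⟩ := Submodule.FG.exists_span_finset_card_eq_spanFinrank
    (IsNoetherian.noetherian (IsLocalRing.maximalIdeal L))
  let z : Fin d → L := fun i => (s.equivFin.symm (Fin.cast (hsc.trans hr').symm i) : L)
  have hz : Ideal.span (Set.range z) = IsLocalRing.maximalIdeal L := by
    refine Eq.trans (congrArg Ideal.span ?_) hs
    ext w
    constructor
    · rintro ⟨i, rfl⟩
      exact (s.equivFin.symm _).2
    · intro hw
      exact ⟨Fin.cast (hsc.trans hr') (s.equivFin ⟨w, hw⟩), by simp [z]⟩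
  choose q hq using fun i => IsLocalization.surj m.primeCompl (z i)
  let a : Fin d → A := fun i => (q i).1
  have ha : Ideal.span (Set.range fun i => algebraMap A L (a i)) = IsLocalRing.maximalIdeal L := by
    rw [← hz]
    refine le_antisymm (Ideal.span_le.2 ?_) (Ideal.span_le.2 ?_)
    · rintro _ ⟨i, rfl⟩
      show algebraMap A L (q i).1 ∈ _
      rw [← hq i]
      exact Ideal.mul_mem_right _ _ (Ideal.subset_span ⟨i, rfl⟩)
    · rintro _ ⟨i, rfl⟩
      obtain ⟨v, hv⟩ := IsLocalization.map_units L (q i).2
      have : z i = algebraMap A L (a i) * ↑v⁻¹ := by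
        show _ = algebraMap A L (q i).1 * _
        rw [← hq i, ← hv, Units.mul_inv_cancel_right]
      rw [this]
      exact Ideal.mul_mem_right _ _ (Ideal.subset_span ⟨i, rfl⟩)
  have hreg := (S0559.result L d hd _ ha).toIsWeaklyRegular
  have hmap : (List.ofFn a).map (algebraMap A L) = List.ofFn fun i => algebraMap A L (a i) := by
    rw [List.map_ofFn]; rfl
  refine ⟨List.ofFn a, List.length_ofFn, fun k hk x hx => ?_, ?_⟩
  · rw [mem_sat_iff, map_mul, Ideal.map_ofList, List.map_take, hmap] at hx
    rw [mem_sat_iff, Ideal.map_ofList, List.map_take, hmap]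
    have hk' : k < (List.ofFn fun i => algebraMap A L (a i)).length := by simpa using hk
    have hs := ((RingTheory.Sequence.isWeaklyRegular_iff L _).1 hreg) k hk'
    have heq : (List.ofFn fun i => algebraMap A L (a i))[k] = algebraMap A L (List.ofFn a)[k] := by simp
    have hmem : Submodule.Quotient.mk (p := (Ideal.ofList (List.take k (List.ofFn fun i => algebraMap A L (a i))) • ⊤ :
        Submodule L L)) (algebraMap A L x) = 0 := by
      refine hs.right_eq_zero_of_smul ?_
      rw [← Submodule.Quotient.mk_smul, Submodule.Quotient.mk_eq_zero, heq, Ideal.smul_top_eq_map]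
      simpa using hx
    rwa [Submodule.Quotient.mk_eq_zero, Ideal.smul_eq_mul, Ideal.mul_top] at hmem
  · ext x
    have hR : Ideal.ofList (List.ofFn fun i => algebraMap A L (a i)) = IsLocalRing.maximalIdeal L := by
      rw [CAlgGlobalDim.ofList_ofFn, ha]
    rw [mem_sat_iff, Ideal.map_ofList, hmap, hR]
    exact IsLocalization.AtPrime.to_map_mem_maximal_iff L m x

end Groth.Agent.PointDetect7
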