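import Groth.Agent.PointDetect7.Main
import Groth.Agent.PointDetect7.RegPar
import Groth.Agent.AssLib.OpenRestrict

/-!
# The point sheaf on a chart
-/

set_option autoImplicit false
set_option backward.isDefEq.respectTransparency false
set_option linter.style.haveILetI false
universe u
open CategoryTheory CategoryTheory.Limits AlgebraicGeometry TopologicalSpace Pretriangulated Opposite
attribute [local instance] HasDerivedCategory.standard

namespace Groth.Agent.PointDetect7
open KFlatLib

/-- A scalar in the prime of the only point of the support kills a module whose stalk it kills. -/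
lemma smul_eq_zero_of_stalks {R : CommRingCat.{u}} (Q : ModuleCat.{u} R) {N : (Spec R).Modules}
    (e : tilde Q ≅ N) (y : Spec R) (hoff : ∀ z, z ≠ y → Subsingleton (N.presheaf.stalk z))
    (hkill : ∀ r ∈ IsLocalRing.maximalIdeal ((Spec R).presheaf.stalk y), ∀ v : N.presheaf.stalk y, r • v = 0)
    (f : R) (hf : f ∈ (y : PrimeSpectrum R).asIdeal) (q : Q) : f • q = 0 := by
  have hbij : Function.Bijective (tilde.toOpen Q ⊤).hom :=
    ConcreteCategory.bijective_of_isIso (tilde.isoTop Q).hom
  refine hbij.1 ?_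
  rw [map_smul, map_zero]
  set s : Γ(tilde Q, ⊤) := (tilde.toOpen Q ⊤).hom q
  show f • s = 0
  rw [Scheme.Modules.smul_Spec_def]
  set f' := ((Spec R).presheaf.map (⊤ : (Spec R).Opens).leTop.op) ((Scheme.ΓSpecIso R).inv f)
  refine TopCat.Presheaf.section_ext ⟨(tilde Q).presheaf, (tilde Q).isSheaf⟩ ⊤ _ _ fun z hz => ?_
  change (tilde Q).presheaf.germ ⊤ z hz _ = (tilde Q).presheaf.germ ⊤ z hz 0
  rw [map_zero]
  by_cases hzy : z = y
  · subst hzy
    let L := (DerSch.stalkFunctor (Spec R) z).mapIso e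
    apply L.toLinearEquiv.injective
    rw [map_zero, QCoh.germ_smul']
    refine (L.toLinearEquiv.map_smul _ _).trans (hkill _ ?_ _)
    rw [IsLocalRing.mem_maximalIdeal, mem_nonunits_iff]
    intro hu
    have hb : z ∈ (Spec R).basicOpen f' := (Scheme.mem_basicOpen _ f' z hz).2 hu
    simp only [f', Scheme.basicOpen_res] at hb
    have : z ∈ (PrimeSpectrum.basicOpen f : Opens (PrimeSpectrum R)) := by
      rw [← basicOpen_eq_of_affine f]
      simpa using hb
    exact this hf
  · haveI := (subsingleton_stalk_of_iso e z).2 (hoff z hzy)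
    exact Subsingleton.elim (α := (tilde Q).presheaf.stalk z) _ _

/-- A local model of an object at a closed point with regular local ring. -/
theorem exists_model {X : Scheme.{u}} [IsLocallyNoetherian X] (x : X) (hx : IsClosed ({x} : Set X))
    [IsRegularLocalRing (X.presheaf.stalk x)] (d : ℕ) (hd : ringKrullDim (X.presheaf.stalk x) = d) :
    ∃ (R : CommRingCat.{u}) (_ : IsNoetherianRing R) (j : Spec R ⟶ X) (_ : IsOpenImmersion j) (y : Spec R)
      (_ : j.base y = x) (_ : (y : PrimeSpectrum R).asIdeal.IsMaximal) (l : List R) (Q : ModuleCat.{u} R),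
      l.length = d ∧ RegularAt (y : PrimeSpectrum R).asIdeal l ∧
      sat (y : PrimeSpectrum R).asIdeal (Ideal.ofList l) = (y : PrimeSpectrum R).asIdeal ∧
      Nonempty (tilde Q ≅ (Scheme.Modules.restrictFunctor j).obj
        ((Coh.push (X.fromSpecResidueField x)).obj (Coh.structureModule _))) ∧
      (∃ (ι : (R ⧸ (y : PrimeSpectrum R).asIdeal) →ₗ[R] Q) (π : Q →ₗ[R] (R ⧸ (y : PrimeSpectrum R).asIdeal)),
        π ∘ₗ ι = LinearMap.id) := by
  set M := (Coh.push (X.fromSpecResidueField x)).obj (Coh.structureModule _) with hMdef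
  obtain ⟨hoff, hnt, hkill⟩ := PointHom7.point_sheaf x hx
  obtain ⟨R, hR, j, hj, y, rfl⟩ := exists_chart x
  haveI : IsLocallyNoetherian (Spec R) := isLocallyNoetherian_of_isOpenImmersion j
  have hy : IsClosed ({y} : Set (Spec R)) := by
    have : ({y} : Set (Spec R)) = j.base ⁻¹' {j.base y} := by
      ext z
      exact ⟨fun hz => congrArg j.base hz, fun hz => j.isOpenEmbedding.injective hz⟩
    rw [this]
    exact hx.preimage j.base.hom.continuous
  haveI hmax : (y : PrimeSpectrum R).asIdeal.IsMaximal :=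
    (PrimeSpectrum.isClosed_singleton_iff_isMaximal y).1 hy
  set m := (y : PrimeSpectrum R).asIdeal
  letI : Algebra R ((Spec R).presheaf.stalk y) := StructureSheaf.stalkAlgebra R y
  haveI : IsLocalization.AtPrime ((Spec R).presheaf.stalk y) m :=
    StructureSheaf.IsLocalization.to_stalk R y
  let e1 : X.presheaf.stalk (j.base y) ≃+* Localization.AtPrime m :=
    ((asIso (j.stalkMap y)).commRingCatIsoToRingEquiv).trans
      (IsLocalization.algEquiv m.primeCompl ((Spec R).presheaf.stalk y) (Localization.AtPrime m)).toRingEquiv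
  haveI : IsRegularLocalRing (Localization.AtPrime m) := IsRegularLocalRing.of_ringEquiv e1
  obtain ⟨l, hl, hreg, hsat⟩ := exists_regularAt m d ((ringKrullDim_eq_of_ringEquiv e1).symm.trans hd)
  have hMq : Coh.IsQCoh M := by
    haveI : IsClosedImmersion (X.fromSpecResidueField (j.base y)) := IsClosedImmersion.of_isPreimmersion _ (by
      rw [Scheme.range_fromSpecResidueField]; exact hx)
    haveI : IsLocallyNoetherian (Spec (X.residueField (j.base y))) :=
      LocallyOfFiniteType.isLocallyNoetherian (X.fromSpecResidueField (j.base y))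
    exact (QCoh.isCoh_pushforward_finite _ QCoh.isCoh_structureModule').1
  obtain ⟨Q, ⟨eQ⟩⟩ := QCoh.isQCoh_spec_iff.1 (QCoh.isQCoh_restrict j hMq)
  obtain ⟨c, hc⟩ := AssLib.exists_semilinear_restrict j M y
  have hk : ∀ f ∈ m, ∀ q : Q, f • q = 0 := smul_eq_zero_of_stalks Q eQ y
    (fun z hz => (subsingleton_stalk_restrict_iff j M z).2 (hoff _ fun h => hz (j.isOpenEmbedding.injective h)))
    fun r hr v => by
      obtain ⟨a, rfl⟩ := (ConcreteCategory.bijective_of_isIso (j.stalkMap y)).2 r
      refine c.injective ?_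
      rw [map_zero]
      refine (hc a v).trans (hkill a ?_ (c v))
      rw [IsLocalRing.mem_maximalIdeal, mem_nonunits_iff] at hr ⊢
      exact fun hu => hr (hu.map (j.stalkMap y).hom)
  refine ⟨R, hR, j, hj, y, rfl, hmax, l, Q, hl, hreg, hsat, ⟨eQ⟩, ?_⟩
  letI : Field (R ⧸ m) := Ideal.Quotient.field m
  haveI : Nontrivial Q := by
    by_contra hQ
    rw [not_nontrivial_iff_subsingleton] at hQ
    exact not_nontrivial_iff_subsingleton.2 ((subsingleton_stalk_restrict_iff j M y).1
      ((subsingleton_stalk_of_iso eQ y).1 ((subsingleton_stalk_tilde_iff Q y).2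
        fun v => ⟨1, m.ne_top_iff_one.1 hmax.ne_top, Subsingleton.elim _ _⟩))) hnt
  letI : Module (R ⧸ m) Q := Module.IsTorsionBySet.module (fun v r => hk r.1 r.2 v)
  haveI : IsScalarTower R (R ⧸ m) Q := ⟨fun r q x => by
    obtain ⟨q, rfl⟩ := Ideal.Quotient.mk_surjective q
    exact mul_smul r q x⟩
  obtain ⟨v, hv⟩ := exists_ne (0 : Q)
  obtain ⟨χ, hχ⟩ := Module.Projective.exists_dual_ne_zero (R ⧸ m) hv
  refine ⟨(LinearMap.toSpanSingleton (R ⧸ m) Q ((χ v)⁻¹ • v)).restrictScalars R, χ.restrictScalars R, ?_⟩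
  refine LinearMap.ext fun a => ?_
  show χ (a • (χ v)⁻¹ • v) = a
  rw [map_smul, map_smul, smul_eq_mul, smul_eq_mul, inv_mul_cancel₀ hχ, mul_one]

end Groth.Agent.PointDetect7
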