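import Groth.Agent.PointDetect7.Ring
import Groth.Agent.PointHom7.Main
import Groth.Agent.KFlatLib.Scheme.CohD
import Groth.Agent.KFlatLib.Scheme.ExtZero
import Groth.Agent.QCoh.DevissageP

/-!
# The skyscraper sheaf at a closed point detects bounded coherent objects near the point
-/

set_option autoImplicit false
set_option backward.isDefEq.respectTransparency false
set_option linter.style.haveILetI false
universe u
open CategoryTheory CategoryTheory.Limits AlgebraicGeometry TopologicalSpace Pretriangulated
attribute [local instance] HasDerivedCategory.standard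

namespace Groth.Agent.PointDetect7
open KFlatLib

lemma subsingleton_stalk_tilde_iff {R : CommRingCat.{u}} (M : ModuleCat.{u} R) (y : Spec R) :
    Subsingleton ((tilde M).presheaf.stalk y) ↔
      ∀ v : M, ∃ r ∉ (y : PrimeSpectrum R).asIdeal, r • v = 0 :=
  IsLocalizedModule.subsingleton_iff (y : PrimeSpectrum R).asIdeal.primeCompl (tilde.toStalk M y).hom

lemma subsingleton_stalk_of_iso {Y : Scheme.{u}} {M N : Y.Modules} (e : M ≅ N) (y : Y) :
    Subsingleton (M.presheaf.stalk y) ↔ Subsingleton (N.presheaf.stalk y) :=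
  ((DerSch.stalkFunctor Y y).mapIso e).toLinearEquiv.toEquiv.subsingleton_congr

lemma subsingleton_stalk_restrict_iff {U X : Scheme.{u}} (j : U ⟶ X) [IsOpenImmersion j] (M : X.Modules) (y : U) :
    Subsingleton (((Scheme.Modules.restrictFunctor j).obj M).presheaf.stalk y) ↔
      Subsingleton (M.presheaf.stalk (j.base y)) :=
  ((Scheme.Modules.restrictStalkNatIso j y).app M).addCommGroupIsoToAddEquiv.toEquiv.subsingleton_congr

variable {X : Scheme.{u}}

/-- The counit of extension by zero is an isomorphism for modules supported in the open. -/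
lemma isIso_counit_of_support {U : Scheme.{u}} (j : U ⟶ X) [IsOpenImmersion j] (M : X.Modules)
    (hM : ∀ z, z ∉ Set.range j.base → Subsingleton (M.presheaf.stalk z)) :
    IsIso ((lshAdj j).counit.app M) := by
  haveI h1 : IsIso ((Scheme.Modules.restrictFunctor j).map ((lshAdj j).counit.app M)) := by
    haveI : IsIso ((lshAdj j).unit.app ((Scheme.Modules.restrictFunctor j).obj M) ≫
        (Scheme.Modules.restrictFunctor j).map ((lshAdj j).counit.app M)) := by
      rw [(lshAdj j).right_triangle_components]
      exact IsIso.id _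
    exact IsIso.of_isIso_comp_left ((lshAdj j).unit.app _) _
  refine isIso_of_stalk _ fun z => ?_
  by_cases hz : z ∈ Set.range j.base
  · obtain ⟨y, rfl⟩ := hz
    have hb := ConcreteCategory.bijective_of_isIso ((DerSch.stalkFunctor U y).map
      ((Scheme.Modules.restrictFunctor j).map ((lshAdj j).counit.app M)))
    exact (ConcreteCategory.isIso_iff_bijective _).2
      ⟨injective_stalk_of_restrict j _ y hb.1, surjective_stalk_of_restrict j _ y hb.2⟩
  · have hA := isZero_stalk_lsh j z hz ((Scheme.Modules.restrictFunctor j).obj M)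
    have hB : IsZero ((DerSch.stalkFunctor X z).obj M) := @ModuleCat.isZero_of_subsingleton _ _ _ (hM z hz)
    exact ⟨0, hA.eq_of_src _ _, hB.eq_of_src _ _⟩

/-- **Point detection.** If there is no nonzero map from the skyscraper at the closed point `x` to a
shift of a bounded below object with coherent cohomology, all cohomology sheaves vanish at `x`. -/
theorem notMem_support [IsLocallyNoetherian X] (x : X) (hx : IsClosed ({x} : Set X))
    (K : DCoh.D X) (hK : DCoh.IsCohD K) (a : ℤ) [K.IsGE a]
    (h : ∀ (i : ℤ) (φ : DCoh.inD X ((Coh.push (X.fromSpecResidueField x)).obj (Coh.structureModule _)) ⟶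
      (shiftFunctor (DCoh.D X) i).obj K), φ = 0) (i : ℤ) :
    x ∉ CohB1.support (DCoh.HD K i) := by
  set M := (Coh.push (X.fromSpecResidueField x)).obj (Coh.structureModule _) with hMdef
  obtain ⟨hoff, hnt, -⟩ := PointHom7.point_sheaf x hx
  have hMcoh : Coh.IsCoh M := by
    haveI : IsClosedImmersion (X.fromSpecResidueField x) := IsClosedImmersion.of_isPreimmersion _ (by
      rw [Scheme.range_fromSpecResidueField]; exact hx)
    haveI : IsLocallyNoetherian (Spec (X.residueField x)) :=
      LocallyOfFiniteType.isLocallyNoetherian (X.fromSpecResidueField x)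
    exact QCoh.isCoh_pushforward_finite _ QCoh.isCoh_structureModule'
  obtain ⟨R, hR, j, hj, y, rfl⟩ := exists_chart x
  haveI : IsLocallyNoetherian (Spec R) := isLocallyNoetherian_of_isOpenImmersion j
  haveI : PreservesFiniteLimits (tilde.functor R) := QCoh.tilde_preservesFiniteLimits (R := R)
  haveI : PreservesFiniteColimits (tilde.functor R) := QCoh.tilde_preservesFiniteColimits (R := R)
  -- the affine models
  obtain ⟨E, ⟨eE⟩⟩ := exists_tildeD_iso (isQCohD_rho j (isCohD_isQCohD hK))
  obtain ⟨Q, ⟨eQ⟩⟩ := QCoh.isQCoh_spec_iff.1 (QCoh.isQCoh_restrict j hMcoh.1)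
  haveI : Module.Finite R Q := (isCoh_tilde_iff Q).1 (isCoh_of_iso eQ.symm (isCoh_restrict j hMcoh))
  let eH : ∀ n, (tilde.functor R).obj ((DerivedCategory.homologyFunctor (ModuleCat.{u} R) n).obj E) ≅
      (Scheme.Modules.restrictFunctor j).obj (DCoh.HD K n) := fun n =>
    ((mapDCHomologyIso (tilde.functor R) n).app E).symm ≪≫
      (DerivedCategory.homologyFunctor _ n).mapIso eE ≪≫ restrictHDIso j K n
  have hfin : ∀ n, Module.Finite R ((DerivedCategory.homologyFunctor (ModuleCat.{u} R) n).obj E) :=
    fun n => (isCoh_tilde_iff _).1 (isCoh_of_iso (eH n).symm (isCoh_restrict j (hK n)))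
  haveI : E.IsGE a := (DerivedCategory.isGE_iff _ _).2 fun n hn => (IsZero.iff_id_eq_zero _).2
    ((tilde.functor R).map_injective (IsZero.eq_of_src
      ((Functor.map_isZero (Scheme.Modules.restrictFunctor j)
        (DerivedCategory.isZero_of_isGE K a n hn)).of_iso (eH n)) _ _))
  have hy : IsClosed ({y} : Set (Spec R)) := by
    have : ({y} : Set (Spec R)) = j.base ⁻¹' {j.base y} := by
      ext z
      exact ⟨fun hz => congrArg j.base hz, fun hz => j.isOpenEmbedding.injective hz⟩
    rw [this]
    exact hx.preimage j.base.hom.continuous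
  haveI : (y : PrimeSpectrum R).asIdeal.IsMaximal := (PrimeSpectrum.isClosed_singleton_iff_isMaximal y).1 hy
  have hQ : ∀ r ∉ (y : PrimeSpectrum R).asIdeal, ∃ q : Q, r • q ≠ 0 := by
    intro r hr
    by_contra hne
    push Not at hne
    exact not_nontrivial_iff_subsingleton.2 ((subsingleton_stalk_restrict_iff j M y).1
      ((subsingleton_stalk_of_iso eQ y).1 ((subsingleton_stalk_tilde_iff Q y).2
        fun v => ⟨r, hr, hne v⟩))) hnt
  -- maps on the chart extend to the whole space
  have hhom : ∀ (n : ℤ) (φ : (DerivedCategory.singleFunctor (ModuleCat.{u} R) 0).obj Q ⟶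
      (shiftFunctor (DerivedCategory (ModuleCat.{u} R)) n).obj E), φ = 0 := by
    intro n φ
    apply (tildeD_map_bijective _ _).1
    rw [Functor.map_zero]
    let ad := H9Misc.TelLocal.derivedAdjunction (lshAdj j)
    haveI := isIso_counit_of_support j M fun z hz => hoff z fun hzx => hz ⟨y, hzx.symm⟩
    let a0 : (rho j).obj (DCoh.inD X M) ≅ (DCoh.tildeD R).obj
        ((DerivedCategory.singleFunctor (ModuleCat.{u} R) 0).obj Q) :=
      ((Scheme.Modules.restrictFunctor j).mapDerivedCategorySingleFunctor 0).app M ≪≫
        (DerivedCategory.singleFunctor _ 0).mapIso eQ.symm ≪≫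
          (((tilde.functor R).mapDerivedCategorySingleFunctor 0).app Q).symm
    let b0 : (rho j).obj ((shiftFunctor (DCoh.D X) n).obj K) ≅
        (DCoh.tildeD R).obj ((shiftFunctor (DerivedCategory (ModuleCat.{u} R)) n).obj E) :=
      ((rho j).commShiftIso n).app K ≪≫ (shiftFunctor _ n).mapIso eE.symm ≪≫
        (((DCoh.tildeD R).commShiftIso n).app E).symm
    let c0 : (lsh j).mapDerivedCategory.obj ((rho j).obj (DCoh.inD X M)) ≅ DCoh.inD X M :=
      (lsh j).mapDerivedCategory.mapIso
          (((Scheme.Modules.restrictFunctor j).mapDerivedCategorySingleFunctor 0).app M) ≪≫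
        ((lsh j).mapDerivedCategorySingleFunctor 0).app _ ≪≫
        (DerivedCategory.singleFunctor _ 0).mapIso (asIso ((lshAdj j).counit.app M))
    have hψ : a0.hom ≫ (DCoh.tildeD R).map φ ≫ b0.inv = 0 := by
      apply (ad.homEquiv _ _).symm.injective
      rw [← cancel_epi c0.inv, h n (c0.inv ≫ _), Adjunction.homEquiv_counit _ _ _ (0 : _ ⟶ _)]
      simp
    rwa [Preadditive.IsIso.comp_left_eq_zero, Preadditive.IsIso.comp_right_eq_zero] at hψ
  intro hsupp
  apply hsupp
  refine (subsingleton_stalk_restrict_iff j _ y).1 ((subsingleton_stalk_of_iso (eH i) y).1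
    ((subsingleton_stalk_tilde_iff _ y).2 fun v => ?_))
  exact exists_smul_eq_zero (y : PrimeSpectrum R).asIdeal Q hQ E a hfin hhom i v

end Groth.Agent.PointDetect7
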