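import Groth.Agent.PointDetect7.Ring
import Groth.Agent.KFlatLib.Ring.LTenLinear
import Groth.Agent.H9Misc.DRingThick
import Mathlib.RingTheory.Regular.RegularSequence

/-!
# Maps to or from a point module and a regular sequence at the point

If the localisation at the maximal ideal `m` has a regular sequence `t₁, …, t_d` generating its maximal
ideal, then the vanishing of `Hom(A/m, E⟦i⟧)` forces the vanishing at `m` of `Hom(A, E⟦i - d⟧)`, and the
vanishing of `Hom(X, A/m)` forces that of `Hom(X, A)`; in both cases one descends along the sequence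
by Nakayama's lemma, modulo modules killed by an element outside `m`.
-/

set_option autoImplicit false
set_option backward.isDefEq.respectTransparency false
set_option linter.style.haveILetI false
universe u v w
open CategoryTheory CategoryTheory.Limits Pretriangulated
attribute [local instance] HasDerivedCategory.standard

namespace Groth.Agent.PointDetect7

/-- An extension of finite modules over a noetherian ring is finite, in any universes. -/
lemma finite_middle' {A : Type u} [CommRing A] [IsNoetherianRing A] {M₁ M₂ M₃ : Type w} [AddCommGroup M₁]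
    [Module A M₁] [AddCommGroup M₂] [Module A M₂] [AddCommGroup M₃] [Module A M₃] [Module.Finite A M₁]
    [Module.Finite A M₃] (a : M₁ →ₗ[A] M₂) (b : M₂ →ₗ[A] M₃)
    (hex : ∀ y, b y = 0 ↔ ∃ x, a x = y) : Module.Finite A M₂ := by
  haveI : Module.Finite A (LinearMap.range b) :=
    Module.Finite.iff_fg.2 (IsNoetherian.noetherian (LinearMap.range b))
  refine Module.Finite.of_exact (f := a) (g := b.rangeRestrict) (fun y => ?_)
    b.surjective_rangeRestrict
  show b.rangeRestrict y = 0 ↔ _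
  rw [← Subtype.coe_inj]
  exact hex y

section Abstract

variable {A : Type u} [CommRing A] {C : Type v} [Category.{w} C] [Preadditive C] [Linear A C]

/-- Every morphism is killed by an element outside `m`. -/
def Killed (m : Ideal A) (X Y : C) : Prop := ∀ φ : X ⟶ Y, ∃ r ∉ m, r • φ = 0

lemma Killed.of_iso {m : Ideal A} {X X' Y Y' : C} (eX : X ≅ X') (eY : Y ≅ Y') (h : Killed m X Y) :
    Killed m X' Y' := fun φ => by
  obtain ⟨r, hr, h0⟩ := h (eX.hom ≫ φ ≫ eY.inv)
  refine ⟨r, hr, ?_⟩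
  rw [← cancel_mono eY.inv, ← cancel_epi eX.hom, zero_comp, comp_zero]
  simpa only [Linear.smul_comp, Linear.comp_smul] using h0

/-- The Nakayama step for a single module. -/
lemma killed_of_le {m : Ideal A} [hm : m.IsMaximal] {X Y : C} [Module.Finite A (X ⟶ Y)]
    {t : A} (ht : t ∈ m) (h : ∀ φ : X ⟶ Y, ∃ r ∉ m, ∃ g : X ⟶ Y, r • φ = t • g) : Killed m X Y := by
  have hsub : (⊤ : Submodule A (X ⟶ Y)) ≤ m • ⊤ := by
    intro φ _
    obtain ⟨r, hr, g, hg⟩ := h φ
    obtain ⟨s, μ, hμ, hsum⟩ := hm.exists_inv hr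
    have : φ = s • (t • g) + μ • φ := by rw [← hg, ← mul_smul, ← add_smul, hsum, one_smul]
    rw [this]
    exact Submodule.add_mem _ (Submodule.smul_mem _ _ (Submodule.smul_mem_smul ht Submodule.mem_top))
      (Submodule.smul_mem_smul hμ Submodule.mem_top)
  obtain ⟨r, hr, hr0⟩ := Submodule.exists_sub_one_mem_and_smul_eq_zero_of_fg_of_le_smul m ⊤
    Module.Finite.fg_top hsub
  exact fun φ => ⟨r, fun h' => m.ne_top_iff_one.1 hm.ne_top (by simpa using m.sub_mem h' hr),
    hr0 φ Submodule.mem_top⟩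

variable [HasZeroObject C] [HasShift C ℤ] [∀ n : ℤ, (shiftFunctor C n).Additive] [Pretriangulated C]

lemma finite_hom_mid_src [IsNoetherianRing A] (T : Triangle C) (hT : T ∈ distTriang C) (Y : C)
    [Module.Finite A (T.obj₁ ⟶ Y)] [Module.Finite A (T.obj₃ ⟶ Y)] : Module.Finite A (T.obj₂ ⟶ Y) := by
  refine finite_middle' (A := A) (Linear.leftComp A Y T.mor₂) (Linear.leftComp A Y T.mor₁) fun φ => ?_
  refine ⟨fun h => ?_, ?_⟩
  · obtain ⟨g, hg⟩ := Triangle.yoneda_exact₂ T hT φ h
    exact ⟨g, hg.symm⟩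
  · rintro ⟨g, rfl⟩
    show T.mor₁ ≫ T.mor₂ ≫ g = 0
    rw [← Category.assoc, comp_distTriang_mor_zero₁₂ T hT, zero_comp]

lemma finite_hom_mid_tgt [IsNoetherianRing A] (T : Triangle C) (hT : T ∈ distTriang C) (X : C)
    [Module.Finite A (X ⟶ T.obj₁)] [Module.Finite A (X ⟶ T.obj₃)] : Module.Finite A (X ⟶ T.obj₂) := by
  refine finite_middle' (A := A) (Linear.rightComp A X T.mor₁) (Linear.rightComp A X T.mor₂) fun φ => ?_
  refine ⟨fun h => ?_, ?_⟩
  · obtain ⟨g, hg⟩ := Triangle.coyoneda_exact₂ T hT φ h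
    exact ⟨g, hg.symm⟩
  · rintro ⟨g, rfl⟩
    show (g ≫ T.mor₁) ≫ T.mor₂ = 0
    rw [Category.assoc, comp_distTriang_mor_zero₁₂ T hT, comp_zero]

lemma killed_mid_src {m : Ideal A} [m.IsMaximal] (T : Triangle C) (hT : T ∈ distTriang C) {r : A}
    (hr : r ∉ m) (h₁ : r • 𝟙 T.obj₁ = 0) {Y : C} (h₃ : Killed m T.obj₃ Y) : Killed m T.obj₂ Y := by
  intro φ
  have h0 : T.mor₁ ≫ (r • φ) = 0 := by
    calc T.mor₁ ≫ (r • φ) = (r • 𝟙 T.obj₁) ≫ T.mor₁ ≫ φ := by simp
      _ = 0 := by rw [h₁, zero_comp]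
  obtain ⟨g, hg⟩ := Triangle.yoneda_exact₂ T hT (r • φ) h0
  obtain ⟨r', hr', hg0⟩ := h₃ g
  exact ⟨r' * r, fun h => ((Ideal.IsPrime.mem_or_mem inferInstance h).elim hr' hr),
    by rw [mul_smul, hg, ← Linear.comp_smul, hg0, comp_zero]⟩

lemma killed_mid_tgt {m : Ideal A} [m.IsMaximal] (T : Triangle C) (hT : T ∈ distTriang C) {r : A}
    (hr : r ∉ m) (h₁ : r • 𝟙 T.obj₁ = 0) {X : C} (h₃ : Killed m X T.obj₃) : Killed m X T.obj₂ := by
  intro φ
  obtain ⟨r', hr', h0⟩ := h₃ (φ ≫ T.mor₂)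
  obtain ⟨g, hg⟩ := Triangle.coyoneda_exact₂ T hT (r' • φ) (by rwa [Linear.smul_comp])
  refine ⟨r * r', fun h => ((Ideal.IsPrime.mem_or_mem inferInstance h).elim hr hr'), ?_⟩
  have hz : r • g = 0 := by
    calc r • g = g ≫ (r • 𝟙 T.obj₁) := by simp
      _ = 0 := by rw [h₁, comp_zero]
  rw [mul_smul, hg, ← Linear.smul_comp, hz, zero_comp]

variable [∀ n : ℤ, (shiftFunctor C n).Linear A]

lemma killed_step_src {m : Ideal A} [m.IsMaximal] (T : Triangle C) (hT : T ∈ distTriang C)
    {P : C} (e₁ : T.obj₁ ≅ P) (e₂ : T.obj₂ ≅ P) {t : A} (ht : t ∈ m)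
    (h₁ : T.mor₁ = t • (e₁.hom ≫ e₂.inv)) {Y : C} [Module.Finite A (P ⟶ Y)]
    (h₃ : Killed m T.obj₃ ((shiftFunctor C (1 : ℤ)).obj Y)) : Killed m P Y := by
  refine killed_of_le ht fun φ => ?_
  obtain ⟨r, hr, h0⟩ := h₃ (T.mor₃ ≫ (shiftFunctor C (1 : ℤ)).map (e₁.hom ≫ φ))
  obtain ⟨g', hg'⟩ := Triangle.yoneda_exact₃ T.rotate (rot_of_distTriang T hT)
    ((shiftFunctor C (1 : ℤ)).map (r • (e₁.hom ≫ φ)))
    (by
      show T.mor₃ ≫ (shiftFunctor C (1 : ℤ)).map (r • (e₁.hom ≫ φ)) = 0
      rw [Functor.map_smul, Linear.comp_smul, h0])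
  obtain ⟨g, rfl⟩ := (shiftFunctor C (1 : ℤ)).map_surjective g'
  refine ⟨r, hr, e₂.inv ≫ (-g), ?_⟩
  have h1 : r • (e₁.hom ≫ φ) = -(T.mor₁ ≫ g) := by
    refine (shiftFunctor C (1 : ℤ)).map_injective ?_
    rw [Functor.map_neg, Functor.map_comp]
    exact hg'.trans (Preadditive.neg_comp _ _)
  rw [h₁, Linear.smul_comp, ← Linear.comp_smul, Category.assoc] at h1
  rw [← cancel_epi e₁.hom, h1]
  simp

lemma killed_step_tgt {m : Ideal A} [m.IsMaximal] (T : Triangle C) (hT : T ∈ distTriang C)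
    {P : C} (e₁ : T.obj₁ ≅ P) (e₂ : T.obj₂ ≅ P) {t : A} (ht : t ∈ m)
    (h₁ : T.mor₁ = t • (e₁.hom ≫ e₂.inv)) {X : C} [Module.Finite A (X ⟶ P)]
    (h₃ : Killed m X T.obj₃) : Killed m X P := by
  refine killed_of_le ht fun φ => ?_
  obtain ⟨r, hr, h0⟩ := h₃ ((φ ≫ e₂.inv) ≫ T.mor₂)
  obtain ⟨g, hg⟩ := Triangle.coyoneda_exact₂ T hT (r • (φ ≫ e₂.inv)) (by rwa [Linear.smul_comp])
  refine ⟨r, hr, g ≫ e₁.hom, ?_⟩
  rw [← cancel_mono e₂.inv, Linear.smul_comp, hg, h₁]
  simp

end Abstract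

section Ring

variable {A : Type u} [CommRing A]

/-- Elements some multiple of which by a scalar outside `m` lies in `J`. -/
def sat (m : Ideal A) [m.IsPrime] (J : Ideal A) : Ideal A where
  carrier := {x | ∃ r ∉ m, r * x ∈ J}
  add_mem' := by
    rintro x y ⟨r, hr, hx⟩ ⟨s, hs, hy⟩
    refine ⟨r * s, fun h => ((Ideal.IsPrime.mem_or_mem inferInstance h).elim hr hs), ?_⟩
    rw [mul_add]
    refine J.add_mem ?_ ?_
    · rw [mul_comm r s, mul_assoc]; exact J.mul_mem_left s hx
    · rw [mul_assoc]; exact J.mul_mem_left r hy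
  zero_mem' := ⟨1, fun h => ‹m.IsPrime›.ne_top (Ideal.eq_top_of_isUnit_mem _ h isUnit_one), by simp⟩
  smul_mem' := by
    rintro c x ⟨r, hr, hx⟩
    refine ⟨r, hr, ?_⟩
    rw [smul_eq_mul, mul_left_comm]
    exact J.mul_mem_left c hx

lemma le_sat (m : Ideal A) [m.IsPrime] (J : Ideal A) : J ≤ sat m J := fun x hx =>
  ⟨1, fun h => ‹m.IsPrime›.ne_top (Ideal.eq_top_of_isUnit_mem _ h isUnit_one), by rwa [one_mul]⟩

/-- Finitely many elements each killed by a scalar outside a prime are killed by a single one. -/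
lemma exists_uniform {m : Ideal A} [m.IsPrime] {M : Type*} [AddCommGroup M] [Module A M] [Module.Finite A M]
    (h : ∀ v : M, ∃ r ∉ m, r • v = 0) : ∃ r ∉ m, ∀ v : M, r • v = 0 := by
  classical
  obtain ⟨s, hs⟩ := (Module.Finite.fg_top : (⊤ : Submodule A M).FG)
  choose r hr h0 using h
  refine ⟨∏ v ∈ s, r v, fun hp => ?_, fun v => ?_⟩
  · obtain ⟨v, -, hv⟩ := Ideal.IsPrime.prod_mem_iff.1 hp
    exact hr v hv
  · have hv : v ∈ Submodule.span A (s : Set M) := by rw [hs]; trivial
    induction hv using Submodule.span_induction with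
    | mem x hx => rw [← Finset.prod_erase_mul s r hx, mul_smul, h0, smul_zero]
    | zero => exact smul_zero _
    | add x y _ _ hx hy => rw [smul_add, hx, hy, add_zero]
    | smul c x _ hx => rw [smul_comm, hx, smul_zero]

/-- The modules `A/J` in degree zero. -/
noncomputable abbrev quotD (J : Ideal A) : DerivedCategory (ModuleCat.{u} A) :=
  (DerivedCategory.singleFunctor (ModuleCat.{u} A) 0).obj (ModuleCat.of A (A ⧸ J))

lemma exists_triangle_mul {J : Ideal A} {t : A} (hinj : ∀ x, t * x ∈ J → x ∈ J) :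
    ∃ T : Triangle (DerivedCategory (ModuleCat.{u} A)), T ∈ distTriang _ ∧
      ∃ (e₁ : T.obj₁ ≅ quotD J) (e₂ : T.obj₂ ≅ quotD J),
        T.mor₁ = t • (e₁.hom ≫ e₂.inv) ∧ Nonempty (T.obj₃ ≅ quotD (J ⊔ Ideal.span {t})) := by
  let M := ModuleCat.of A (A ⧸ J)
  let S : ShortComplex (ModuleCat.{u} A) := ShortComplex.mk (t • 𝟙 M)
    (ModuleCat.ofHom (Submodule.factor (le_sup_left : J ≤ J ⊔ Ideal.span {t}))) (by
      apply ModuleCat.hom_ext
      refine LinearMap.ext fun x => ?_
      obtain ⟨y, rfl⟩ := Submodule.mkQ_surjective J x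
      show Submodule.factor (le_sup_left : J ≤ J ⊔ Ideal.span {t}) (Submodule.mkQ J (t • y)) = 0
      exact (Submodule.Quotient.mk_eq_zero _).2
        (Submodule.mem_sup_right (Ideal.mul_mem_right y _ (Ideal.mem_span_singleton_self t))))
  have hS : S.ShortExact :=
    { exact := (ShortComplex.moduleCat_exact_iff S).2 fun x hx => by
        obtain ⟨y, rfl⟩ := Submodule.mkQ_surjective J x
        have hy : y ∈ J ⊔ Ideal.span {t} := (Submodule.Quotient.mk_eq_zero _).1 hx
        obtain ⟨j, hj, c, hc, rfl⟩ := Submodule.mem_sup.1 hy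
        obtain ⟨a, rfl⟩ := Ideal.mem_span_singleton.1 hc
        refine ⟨Submodule.mkQ J a, (Submodule.Quotient.eq J).2 ?_⟩
        show t * a - (j + t * a) ∈ J
        rw [sub_add_cancel_right]; exact J.neg_mem hj
      mono_f := (ModuleCat.mono_iff_injective _).2 (by
        refine (injective_iff_map_eq_zero (S.f.hom)).2 fun x hx => ?_
        obtain ⟨y, rfl⟩ := Submodule.mkQ_surjective J x
        exact (Submodule.Quotient.mk_eq_zero _).2 (hinj y ((Submodule.Quotient.mk_eq_zero _).1 hx)))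
      epi_g := (ModuleCat.epi_iff_surjective _).2 (Submodule.factor_surjective (le_sup_left : J ≤ J ⊔ Ideal.span {t})) }
  refine ⟨hS.singleTriangle, hS.singleTriangle_distinguished, Iso.refl _, Iso.refl _, ?_, ⟨Iso.refl (quotD (J ⊔ Ideal.span {t}))⟩⟩
  show (DerivedCategory.singleFunctor (ModuleCat.{u} A) 0).map (t • 𝟙 M) = _
  rw [Functor.map_smul, CategoryTheory.Functor.map_id]
  exact congrArg (fun f => t • f) (Category.comp_id _).symm

lemma exists_triangle_sat [IsNoetherianRing A] {m : Ideal A} [m.IsPrime] {J J' : Ideal A} (hle : J ≤ J')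
    (h : ∀ x ∈ J', ∃ r ∉ m, r * x ∈ J) :
    ∃ T : Triangle (DerivedCategory (ModuleCat.{u} A)), T ∈ distTriang _ ∧
      (∃ r ∉ m, r • 𝟙 T.obj₁ = 0) ∧ Nonempty (T.obj₂ ≅ quotD J) ∧ Nonempty (T.obj₃ ≅ quotD J') := by
  let π := Submodule.factor hle
  let N := LinearMap.ker π
  let S : ShortComplex (ModuleCat.{u} A) := ShortComplex.mk (ModuleCat.ofHom N.subtype) (ModuleCat.ofHom π)
    (by ext x; exact x.2)
  have hS : S.ShortExact :=
    { exact := (ShortComplex.moduleCat_exact_iff S).2 fun x hx => ⟨⟨x, hx⟩, rfl⟩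
      mono_f := (ModuleCat.mono_iff_injective _).2 Subtype.val_injective
      epi_g := (ModuleCat.epi_iff_surjective _).2 (Submodule.factor_surjective hle) }
  haveI : Module.Finite A N := Module.Finite.iff_fg.2 (IsNoetherian.noetherian N)
  obtain ⟨r, hr, h0⟩ := exists_uniform (m := m) (M := N) fun v => by
    obtain ⟨y, hy⟩ := Submodule.mkQ_surjective J v.1
    have hy' : y ∈ J' := (Submodule.Quotient.mk_eq_zero _).1 (by
      have := v.2
      rw [LinearMap.mem_ker, ← hy] at this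
      exact this)
    obtain ⟨r, hr, hry⟩ := h y hy'
    refine ⟨r, hr, Subtype.ext ?_⟩
    show r • v.1 = 0
    rw [← hy]
    exact (Submodule.Quotient.mk_eq_zero _).2 hry
  refine ⟨hS.singleTriangle, hS.singleTriangle_distinguished, ⟨r, hr, ?_⟩, ⟨Iso.refl (quotD J)⟩, ⟨Iso.refl (quotD J')⟩⟩
  show r • 𝟙 ((DerivedCategory.singleFunctor (ModuleCat.{u} A) 0).obj (ModuleCat.of A N)) = 0
  rw [← CategoryTheory.Functor.map_id, ← Functor.map_smul,
    show r • 𝟙 (ModuleCat.of A N) = 0 from ModuleCat.hom_ext (LinearMap.ext h0), Functor.map_zero]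

/-- regular sequences at `m`: multiplication is injective on the successive saturated quotients -/
def RegularAt (m : Ideal A) [m.IsPrime] (l : List A) : Prop :=
  ∀ (k : ℕ) (hk : k < l.length), ∀ x, l[k] * x ∈ sat m (Ideal.ofList (l.take k)) → x ∈ sat m (Ideal.ofList (l.take k))

variable (A) in
/-- the free module of rank one in degree zero is `A/0` -/
noncomputable def unitQuot : quotD (⊥ : Ideal A) ≅
    (DerivedCategory.singleFunctor (ModuleCat.{u} A) 0).obj (ModuleCat.of A A) :=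
  (DerivedCategory.singleFunctor (ModuleCat.{u} A) 0).mapIso
    (Submodule.quotEquivOfEqBot (⊥ : Ideal A) rfl).toModuleIso

/-- The descent along a sequence, for any property of the quotient modules. -/
lemma descent [IsNoetherianRing A] (m : Ideal A) [m.IsPrime] (l : List A) (hl : RegularAt m l)
    (hmax : sat m (Ideal.ofList l) = m) (P : ℕ → DerivedCategory (ModuleCat.{u} A) → Prop)
    (hiso : ∀ n {X Y}, (X ≅ Y) → P n X → P n Y)
    (hmid : ∀ n (T : Triangle (DerivedCategory (ModuleCat.{u} A))), T ∈ distTriang _ →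
      (∃ r ∉ m, r • 𝟙 T.obj₁ = 0) → P n T.obj₃ → P n T.obj₂)
    (hstep : ∀ n (J : Ideal A) (t : A) (T : Triangle (DerivedCategory (ModuleCat.{u} A))), T ∈ distTriang _ →
      ∀ (e₁ : T.obj₁ ≅ quotD J) (e₂ : T.obj₂ ≅ quotD J), t ∈ m → T.mor₁ = t • (e₁.hom ≫ e₂.inv) →
        P n T.obj₃ → P (n + 1) (quotD J))
    (h0 : P 0 (quotD m)) :
    P l.length ((DerivedCategory.singleFunctor (ModuleCat.{u} A) 0).obj (ModuleCat.of A A)) := by
  have key : ∀ j k, j + k = l.length → P j (quotD (sat m (Ideal.ofList (l.take k)))) := by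
    intro j
    induction j with
    | zero =>
      intro k hk
      rw [Nat.zero_add] at hk
      rw [hk, List.take_length, hmax]
      exact h0
    | succ j ih =>
      intro k hk
      have hkl : k < l.length := by omega
      have hnext : l.take (k + 1) = l.take k ++ [l[k]] := (List.take_concat_get' l k hkl).symm
      have hJ : Ideal.ofList (l.take (k + 1)) = Ideal.ofList (l.take k) ⊔ Ideal.span {l[k]} := by
        rw [hnext, Ideal.ofList_append, Ideal.ofList_singleton]
      have hmem : l[k] ∈ m := by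
        rw [← hmax]
        exact le_sat m _ (Ideal.subset_span (List.getElem_mem hkl))
      obtain ⟨T, hT, e₁, e₂, h₁, ⟨e₃⟩⟩ := exists_triangle_mul (hl k hkl)
      refine hstep j _ (l[k]) T hT e₁ e₂ hmem h₁ (hiso j e₃.symm ?_)
      obtain ⟨T', hT', hr, ⟨f₂⟩, ⟨f₃⟩⟩ := exists_triangle_sat (m := m)
        (J := sat m (Ideal.ofList (l.take k)) ⊔ Ideal.span {l[k]}) (J' := sat m (Ideal.ofList (l.take (k + 1))))
        (sup_le (fun x ⟨r, hr, hx⟩ => ⟨r, hr, by rw [hJ]; exact Submodule.mem_sup_left hx⟩)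
          (by rw [hJ]; exact le_sup_right.trans (le_sat m _)))
        (fun x ⟨r, hr, hx⟩ => ⟨r, hr, by
          rw [hJ] at hx
          exact sup_le_sup_right (le_sat m _) _ hx⟩)
      exact hiso j f₂ (hmid j T' hT' hr (hiso j f₃.symm (ih (k + 1) (by omega))))
  obtain ⟨T, hT, hr, ⟨f₂⟩, ⟨f₃⟩⟩ := exists_triangle_sat (m := m) (J := (⊥ : Ideal A))
    (J' := sat m (Ideal.ofList (l.take 0))) bot_le (fun x ⟨r, hr, hx⟩ => ⟨r, hr, by simpa using hx⟩)
  exact hiso _ (f₂ ≪≫ unitQuot A)
    (hmid _ T hT hr (hiso _ f₃.symm (key l.length 0 (by omega))))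

/-- maps out of the free module of rank one are cohomology -/
lemma exists_freeLEquiv (Y : DerivedCategory (ModuleCat.{u} A)) (n : ℤ) :
    Nonempty ((((DerivedCategory.singleFunctor (ModuleCat.{u} A) 0).obj (ModuleCat.of A A)) ⟶
      (shiftFunctor (DerivedCategory (ModuleCat.{u} A)) n).obj Y) ≃ₗ[A]
        (DerivedCategory.homologyFunctor (ModuleCat.{u} A) n).obj Y) := by
  let S := DerivedCategory.singleFunctor (ModuleCat.{u} A) 0
  obtain ⟨eU⟩ := KFlatLib.nonempty_unit_shift_iso (A := A) 0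
  obtain ⟨u⟩ := KFlatLib.exists_homUnitLEquiv (A := A) ((shiftFunctor (DerivedCategory (ModuleCat.{u} A)) n).obj Y) 0 0 (by omega)
  let e : (DTen.unit A)⟦(0 : ℤ)⟧ ≅ S.obj (ModuleCat.of A A) :=
    eU ≪≫ ((DerivedCategory.singleFunctorIsoCompQ (ModuleCat.{u} A) 0).app _).symm
  exact ⟨((Linear.homCongr A e.symm (Iso.refl _))).trans (u.trans
    (((DerivedCategory.homologyFunctor (ModuleCat.{u} A) 0).shiftIso n 0 n (add_zero n)).app Y).toLinearEquiv)⟩

lemma finite_hom_free [IsNoetherianRing A] (r : ℕ) (Y : DerivedCategory (ModuleCat.{u} A))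
    (h : Module.Finite A ((DerivedCategory.singleFunctor (ModuleCat.{u} A) 0).obj (ModuleCat.of A A) ⟶ Y)) :
    Module.Finite A ((DerivedCategory.singleFunctor (ModuleCat.{u} A) 0).obj (ModuleCat.of A (Fin r → A)) ⟶ Y) := by
  classical
  let S := DerivedCategory.singleFunctor (ModuleCat.{u} A) 0
  let ι : Fin r → (ModuleCat.of A A ⟶ ModuleCat.of A (Fin r → A)) :=
    fun i => ModuleCat.ofHom (LinearMap.single A (fun _ : Fin r => A) i)
  let Φ : (S.obj (ModuleCat.of A (Fin r → A)) ⟶ Y) →ₗ[A] (Fin r → (S.obj (ModuleCat.of A A) ⟶ Y)) :=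
    LinearMap.pi fun i => Linear.leftComp A Y (S.map (ι i))
  refine Module.Finite.of_injective Φ ((injective_iff_map_eq_zero Φ).2 fun φ hφ => ?_)
  have hid : ∑ i, ModuleCat.ofHom (LinearMap.proj (R := A) (φ := fun _ : Fin r => A) i) ≫ ι i = 𝟙 _ := by
    apply ModuleCat.hom_ext
    refine LinearMap.ext fun x => ?_
    simp only [ι, ModuleCat.hom_sum, LinearMap.coe_sum, Finset.sum_apply]
    exact Finset.univ_sum_single x
  rw [← Category.id_comp φ, ← CategoryTheory.Functor.map_id, ← hid, Functor.map_sum, Preadditive.sum_comp]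
  refine Finset.sum_eq_zero fun i _ => ?_
  rw [Functor.map_comp, Category.assoc, show S.map (ι i) ≫ φ = 0 from congrFun hφ i, comp_zero]

/-- maps from finite modules to a bounded below object with finite cohomology form finite modules -/
lemma finite_hom_src [IsNoetherianRing A] (E : DerivedCategory (ModuleCat.{u} A)) (a : ℤ) [E.IsGE a]
    (hfin : ∀ i : ℤ, Module.Finite A ((DerivedCategory.homologyFunctor (ModuleCat.{u} A) i).obj E))
    (n : ℤ) (M : ModuleCat.{u} A) [Module.Finite A M] :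
    Module.Finite A ((DerivedCategory.singleFunctor (ModuleCat.{u} A) 0).obj M ⟶
      (shiftFunctor (DerivedCategory (ModuleCat.{u} A)) n).obj E) := by
  suffices ∀ (j : ℕ) (n : ℤ), n < a + j → ∀ (M : ModuleCat.{u} A), Module.Finite A M →
      Module.Finite A ((DerivedCategory.singleFunctor (ModuleCat.{u} A) 0).obj M ⟶
        (shiftFunctor (DerivedCategory (ModuleCat.{u} A)) n).obj E) from
    this ((n - a).toNat + 1) n (by omega) M inferInstance
  intro j
  induction j with
  | zero =>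
    intro n hn M _
    haveI : ((shiftFunctor (DerivedCategory (ModuleCat.{u} A)) n).obj E).IsGE (a - n) :=
      DerivedCategory.TStructure.t.isGE_shift E a n (a - n) (by omega)
    haveI : Subsingleton ((DerivedCategory.singleFunctor (ModuleCat.{u} A) 0).obj M ⟶
        (shiftFunctor (DerivedCategory (ModuleCat.{u} A)) n).obj E) :=
      subsingleton_of_forall_eq 0 fun φ => DerivedCategory.TStructure.t.zero_of_isLE_of_isGE φ 0 (a - n)
        (by omega) inferInstance inferInstance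
    exact inferInstance
  | succ j ih =>
    intro n hn M _
    obtain ⟨r, π, hπ⟩ := Module.Finite.exists_fin' A M
    let S : ShortComplex (ModuleCat.{u} A) := ShortComplex.mk (ModuleCat.ofHom (LinearMap.ker π).subtype)
      (ModuleCat.ofHom π) (by ext x; exact x.2)
    have hS : S.ShortExact :=
      { exact := (ShortComplex.moduleCat_exact_iff S).2 fun x hx => ⟨⟨x, hx⟩, rfl⟩
        mono_f := (ModuleCat.mono_iff_injective _).2 Subtype.val_injective
        epi_g := (ModuleCat.epi_iff_surjective _).2 hπ }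
    let S0 := DerivedCategory.singleFunctor (ModuleCat.{u} A) 0
    let Y := (shiftFunctor (DerivedCategory (ModuleCat.{u} A)) n).obj E
    haveI hker : Module.Finite A S.X₁ :=
      inferInstanceAs (Module.Finite A (LinearMap.ker π : Submodule A (Fin r → A)))
    haveI h1 : Module.Finite A ((S0.obj S.X₁)⟦(1 : ℤ)⟧ ⟶ Y) := by
      haveI := ih (n - 1) (by omega) S.X₁ hker
      let eY : ((shiftFunctor (DerivedCategory (ModuleCat.{u} A)) (n - 1)).obj E)⟦(1 : ℤ)⟧ ≅ Y :=
        ((shiftFunctorAdd' _ (n - 1) 1 n (by omega)).app E).symm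
      let Φ : (S0.obj S.X₁ ⟶ (shiftFunctor (DerivedCategory (ModuleCat.{u} A)) (n - 1)).obj E) →ₗ[A]
          ((S0.obj S.X₁)⟦(1 : ℤ)⟧ ⟶ Y) :=
        { toFun := fun φ => φ⟦(1 : ℤ)⟧' ≫ eY.hom
          map_add' := fun φ ψ => by rw [Functor.map_add, Preadditive.add_comp]
          map_smul' := fun c φ => by rw [Functor.map_smul, Linear.smul_comp]; rfl }
      refine Module.Finite.of_surjective Φ fun ψ => ?_
      obtain ⟨φ, hφ⟩ := (shiftFunctor (DerivedCategory (ModuleCat.{u} A)) (1 : ℤ)).map_surjective (ψ ≫ eY.inv)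
      exact ⟨φ, by show φ⟦(1 : ℤ)⟧' ≫ eY.hom = ψ; rw [hφ, Category.assoc, eY.inv_hom_id, Category.comp_id]⟩
    haveI h2 : Module.Finite A (S0.obj S.X₂ ⟶ Y) := by
      refine finite_hom_free r Y ?_
      obtain ⟨e⟩ := exists_freeLEquiv E n
      haveI := hfin n
      exact Module.Finite.equiv e.symm
    exact @finite_hom_mid_src A _ (DerivedCategory (ModuleCat.{u} A)) _ _ _ _ _ _ _ _ hS.singleTriangle.rotate
      (rot_of_distTriang _ hS.singleTriangle_distinguished) Y h2 h1

/-- **Detection from the point, degreewise.** -/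
theorem killed_src [IsNoetherianRing A] (m : Ideal A) [m.IsMaximal] (l : List A) (hl : RegularAt m l)
    (hmax : sat m (Ideal.ofList l) = m) (E : DerivedCategory (ModuleCat.{u} A)) (a : ℤ) [E.IsGE a]
    (hfin : ∀ i : ℤ, Module.Finite A ((DerivedCategory.homologyFunctor (ModuleCat.{u} A) i).obj E))
    (i : ℤ) (h : Killed m (quotD m) ((shiftFunctor (DerivedCategory (ModuleCat.{u} A)) i).obj E))
    (v : (DerivedCategory.homologyFunctor (ModuleCat.{u} A) (i - l.length)).obj E) :
    ∃ r ∉ m, r • v = 0 := by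
  have hd := descent m l hl hmax
    (fun n X => Killed m X ((shiftFunctor (DerivedCategory (ModuleCat.{u} A)) (i - n)).obj E))
    (fun n X Y e hX => hX.of_iso e (Iso.refl _))
    (fun n T hT ⟨r, hr, h₁⟩ h₃ => killed_mid_src T hT hr h₁ h₃)
    (fun n J t T hT e₁ e₂ ht h₁ h₃ => by
      haveI := finite_hom_src E a hfin (i - (n + 1 : ℕ)) (ModuleCat.of A (A ⧸ J))
      refine killed_step_src T hT e₁ e₂ ht h₁ (h₃.of_iso (Iso.refl _) ?_)
      exact (shiftFunctorAdd' _ (i - (n + 1 : ℕ)) 1 (i - n) (by omega)).app E)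
    (h.of_iso (Iso.refl _) (eqToIso (by simp)))
  obtain ⟨e⟩ := exists_freeLEquiv E (i - l.length)
  obtain ⟨r, hr, h0⟩ := hd (e.symm v)
  refine ⟨r, hr, ?_⟩
  have := congrArg e h0
  rwa [map_smul, LinearEquiv.apply_symm_apply, map_zero] at this

/-- maps from a perfect object to finite modules form finite modules -/
lemma finite_hom_tgt [IsNoetherianRing A] (X : DerivedCategory (ModuleCat.{u} A)) (hX : DRing.IsPerfect A X)
    (n : ℤ) (M : ModuleCat.{u} A) [Module.Finite A M] :
    Module.Finite A (X ⟶ (shiftFunctor (DerivedCategory (ModuleCat.{u} A)) n).obj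
      ((DerivedCategory.singleFunctor (ModuleCat.{u} A) 0).obj M)) := by
  let S := DerivedCategory.singleFunctor (ModuleCat.{u} A) 0
  let P : ObjectProperty (DerivedCategory (ModuleCat.{u} A)) := fun K =>
    ∀ (n : ℤ) (M : ModuleCat.{u} A), Module.Finite A M → Module.Finite A (K ⟶ (S.obj M)⟦n⟧)
  haveI : P.IsClosedUnderIsomorphisms :=
    ⟨fun e h n M hM => haveI := h n M hM; Module.Finite.equiv (Linear.homCongr A e (Iso.refl _))⟩
  refine H9Misc.DRingThick.perfect_induction P ?_ ?_ ?_ ?_ X hX n M inferInstance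
  · intro n M hM
    haveI := hM
    obtain ⟨e⟩ := exists_freeLEquiv (S.obj M) n
    haveI : Module.Finite A ((DerivedCategory.homologyFunctor (ModuleCat.{u} A) n).obj (S.obj M)) := by
      by_cases hn : n = 0
      · subst hn
        exact @Module.Finite.equiv _ _ _ _ _ _ _ _ hM
          ((DerivedCategory.singleFunctorCompHomologyFunctorIso (ModuleCat.{u} A) 0).app M).toLinearEquiv.symm
      · haveI : Subsingleton ((DerivedCategory.homologyFunctor (ModuleCat.{u} A) n).obj (S.obj M)) := by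
          rcases lt_or_gt_of_ne hn with h | h
          · exact ModuleCat.subsingleton_of_isZero (DerivedCategory.isZero_of_isGE _ 0 n h)
          · exact ModuleCat.subsingleton_of_isZero (DerivedCategory.isZero_of_isLE _ 0 n h)
        exact inferInstance
    exact Module.Finite.equiv e.symm
  · intro K s hK n M hM
    haveI := hK (n - s) M hM
    let eY : ((S.obj M)⟦n - s⟧)⟦s⟧ ≅ (S.obj M)⟦n⟧ :=
      ((shiftFunctorAdd' _ (n - s) s n (by omega)).app _).symm
    let Φ : (K ⟶ (S.obj M)⟦n - s⟧) →ₗ[A] (K⟦s⟧ ⟶ (S.obj M)⟦n⟧) :=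
      { toFun := fun φ => φ⟦s⟧' ≫ eY.hom
        map_add' := fun φ ψ => by rw [Functor.map_add, Preadditive.add_comp]
        map_smul' := fun c φ => by rw [Functor.map_smul, Linear.smul_comp]; rfl }
    refine Module.Finite.of_surjective Φ fun ψ => ?_
    obtain ⟨φ, hφ⟩ := (shiftFunctor (DerivedCategory (ModuleCat.{u} A)) s).map_surjective (ψ ≫ eY.inv)
    exact ⟨φ, by show φ⟦s⟧' ≫ eY.hom = ψ; rw [hφ, Category.assoc, eY.inv_hom_id, Category.comp_id]⟩
  · intro T hT h₁ h₃ n M hM
    haveI := h₁ n M hM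
    haveI := h₃ n M hM
    exact finite_hom_mid_src T hT _
  · intro K L _ h n M hM
    haveI := h n M hM
    exact Module.Finite.of_surjective (Linear.leftComp A ((S.obj M)⟦n⟧) (biprod.inl : K ⟶ K ⊞ L))
      fun φ => ⟨biprod.fst ≫ φ, by simp⟩

/-- **Detection into the point, degreewise.** -/
theorem killed_tgt [IsNoetherianRing A] (m : Ideal A) [m.IsMaximal] (l : List A) (hl : RegularAt m l)
    (hmax : sat m (Ideal.ofList l) = m) (X : DerivedCategory (ModuleCat.{u} A)) (hX : DRing.IsPerfect A X)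
    (h : Killed m X (quotD m)) :
    Killed m X ((DerivedCategory.singleFunctor (ModuleCat.{u} A) 0).obj (ModuleCat.of A A)) :=
  descent m l hl hmax (fun _ Y => Killed m X Y) (fun n Y Y' e hY => hY.of_iso (Iso.refl _) e)
    (fun n T hT ⟨r, hr, h₁⟩ h₃ => killed_mid_tgt T hT hr h₁ h₃)
    (fun n J t T hT e₁ e₂ ht h₁ h₃ => by
      haveI : Module.Finite A (X ⟶ quotD J) :=
        @Module.Finite.equiv _ _ _ _ _ _ _ _ (finite_hom_tgt X hX 0 (ModuleCat.of A (A ⧸ J)))
          (Linear.homCongr A (Iso.refl X) ((shiftFunctorZero _ ℤ).app (quotD J)))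
      exact killed_step_tgt T hT e₁ e₂ ht h₁ h₃) h

end Ring

end Groth.Agent.PointDetect7
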