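import Mathlib.Algebra.Homology.DerivedCategory.TStructure
import Mathlib.Algebra.Homology.DerivedCategory.HomologySequence
import Mathlib.Algebra.Homology.DerivedCategory.Linear
import Mathlib.Algebra.Homology.ShortComplex.Linear
import Mathlib.Algebra.Category.ModuleCat.Abelian
import Mathlib.RingTheory.Nakayama
import Mathlib.RingTheory.Ideal.Quotient.Operations
import Mathlib.Algebra.Module.Torsion.Basic
import Mathlib.Data.Int.LeastGreatest
import Mathlib.Algebra.Homology.ShortComplex.ModuleCat
import Mathlib.RingTheory.Noetherian.Basic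
import Mathlib.RingTheory.Finiteness.Basic
import Mathlib.LinearAlgebra.FreeModule.Basic
import Mathlib.LinearAlgebra.Dual.Lemmas
import Groth.Agent.H9Misc.TFactor

/-!
# A closed point detects bounded complexes with finite homology (affine form)

If every map from a finite module `Q` lying over the maximal ideal `m` to every shift of a bounded
below complex `E` with finite homology vanishes, then the homology of `E` vanishes at `m`.
The proof is a downward induction on the generators of `m`, coning off one generator at a time.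
-/

set_option autoImplicit false
set_option backward.isDefEq.respectTransparency false
set_option linter.style.haveILetI false
universe u
open CategoryTheory CategoryTheory.Limits Pretriangulated
attribute [local instance] HasDerivedCategory.standard

namespace Groth.Agent.PointDetect7

variable {A : Type u} [CommRing A]

lemma homologyMap_smul_id (K : CochainComplex (ModuleCat.{u} A) ℤ) (r : A) (i : ℤ) :
    HomologicalComplex.homologyMap (r • 𝟙 K) i = r • 𝟙 (K.homology i) := by
  have h : (HomologicalComplex.shortComplexFunctor (ModuleCat.{u} A) (ComplexShape.up ℤ) i).map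
      (r • 𝟙 K) = r • 𝟙 (K.sc i) := by
    ext <;> rfl
  show ShortComplex.homologyMap ((HomologicalComplex.shortComplexFunctor (ModuleCat.{u} A)
      (ComplexShape.up ℤ) i).map (r • 𝟙 K)) = _
  rw [h, ShortComplex.homologyMap_smul, ShortComplex.homologyMap_id]
  rfl

lemma homology_map_smul_id (E : (DerivedCategory (ModuleCat.{u} A))) (r : A) (i : ℤ) :
    (DerivedCategory.homologyFunctor (ModuleCat.{u} A) i).map (r • 𝟙 E) = r • 𝟙 ((DerivedCategory.homologyFunctor (ModuleCat.{u} A) i).obj E) := by
  let e := DerivedCategory.Q.objObjPreimageIso E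
  have h1 : r • 𝟙 E = e.inv ≫ DerivedCategory.Q.map (r • 𝟙 (DerivedCategory.Q.objPreimage E)) ≫ e.hom := by
    rw [Functor.map_smul, CategoryTheory.Functor.map_id]
    simp
  have h2 : (DerivedCategory.homologyFunctor (ModuleCat.{u} A) i).map (DerivedCategory.Q.map (r • 𝟙 (DerivedCategory.Q.objPreimage E))) =
      r • 𝟙 ((DerivedCategory.homologyFunctor (ModuleCat.{u} A) i).obj (DerivedCategory.Q.obj (DerivedCategory.Q.objPreimage E))) := by
    rw [← cancel_mono ((DerivedCategory.homologyFunctorFactors (ModuleCat.{u} A) i).hom.app _),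
      DerivedCategory.homologyFunctorFactors_hom_naturality, homologyMap_smul_id]
    rw [Linear.comp_smul, Linear.smul_comp, Category.id_comp]
    exact congrArg (fun t => r • t) (Category.comp_id _)
  rw [h1, Functor.map_comp, Functor.map_comp, h2]
  simp [← Functor.map_comp]

/-- nonzero element killed by every member of a finite set of locally nilpotent scalars -/
lemma exists_killed {M : Type u} [AddCommGroup M] [Module A M] [Nontrivial M] (T : Finset A)
    (hT : ∀ f ∈ T, ∀ v : M, ∃ N : ℕ, f ^ N • v = 0) : ∃ v : M, v ≠ 0 ∧ ∀ f ∈ T, f • v = 0 := by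
  classical
  induction T using Finset.induction_on with
  | empty =>
    obtain ⟨v, hv⟩ := exists_ne (0 : M)
    exact ⟨v, hv, fun f hf => absurd hf (Finset.notMem_empty f)⟩
  | @insert g S _ ih =>
    obtain ⟨v, hv, hS⟩ := ih fun f hf => hT f (Finset.mem_insert_of_mem hf)
    have hex := hT g (Finset.mem_insert_self g S) v
    have h0 : 0 < Nat.find hex := (Nat.find_pos hex).2 (by simpa using hv)
    obtain ⟨n, hn⟩ : ∃ n, Nat.find hex = n + 1 := ⟨_, (Nat.succ_pred_eq_of_pos h0).symm⟩
    refine ⟨g ^ n • v, Nat.find_min hex (by omega), fun f hf => ?_⟩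
    rcases Finset.mem_insert.1 hf with rfl | hf
    · rw [← mul_smul, ← pow_succ', ← hn]; exact Nat.find_spec hex
    · rw [smul_comm, hS f hf, smul_zero]

/-- the lowest homology receives the maps from the module into the shift -/
lemma exists_hom_to_shift (E : (DerivedCategory (ModuleCat.{u} A))) (p : ℤ) [E.IsGE p] (Q : ModuleCat.{u} A)
    (ψ : Q ⟶ (DerivedCategory.homologyFunctor (ModuleCat.{u} A) p).obj E) (hψ : ψ ≠ 0) :
    ∃ φ : (DerivedCategory.singleFunctor (ModuleCat.{u} A) 0).obj Q ⟶ (shiftFunctor (DerivedCategory (ModuleCat.{u} A)) p).obj E, φ ≠ 0 := by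
  let T := (DerivedCategory.TStructure.t.truncLT (p + 1)).obj E
  let ι : T ⟶ E := (DerivedCategory.TStructure.t.truncLTι (p + 1)).app E
  haveI : IsIso ((DerivedCategory.homologyFunctor (ModuleCat.{u} A) p).map ι) := H9Misc.isIso_map_truncLTι (p + 1) p (lt_add_one p) E
  haveI : DerivedCategory.IsGE T p := inferInstance
  haveI : DerivedCategory.IsLE T p := DerivedCategory.TStructure.t.isLE_truncLT_obj ..
  obtain ⟨H, ⟨e⟩⟩ := DerivedCategory.exists_iso_singleFunctor_obj_of_isGE_of_isLE T p
  let eH : H ≅ (DerivedCategory.homologyFunctor (ModuleCat.{u} A) p).obj E :=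
    ((DerivedCategory.singleFunctorCompHomologyFunctorIso _ p).app H).symm ≪≫ (DerivedCategory.homologyFunctor (ModuleCat.{u} A) p).mapIso e.symm ≪≫
      asIso ((DerivedCategory.homologyFunctor (ModuleCat.{u} A) p).map ι)
  let g : (DerivedCategory.singleFunctor (ModuleCat.{u} A) p).obj Q ⟶ E := (DerivedCategory.singleFunctor (ModuleCat.{u} A) p).map (ψ ≫ eH.inv) ≫ e.inv ≫ ι
  have hg : g ≠ 0 := by
    intro h
    apply hψ
    have h' := congrArg (DerivedCategory.homologyFunctor (ModuleCat.{u} A) p).map h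
    dsimp only [g] at h'
    simp only [Functor.map_comp, Functor.map_zero] at h'
    have h2 : (DerivedCategory.homologyFunctor (ModuleCat.{u} A) p).map ((DerivedCategory.singleFunctor (ModuleCat.{u} A) p).map (ψ ≫ eH.inv)) = 0 := by
      rw [← cancel_mono ((DerivedCategory.homologyFunctor (ModuleCat.{u} A) p).map e.inv ≫ (DerivedCategory.homologyFunctor (ModuleCat.{u} A) p).map ι), zero_comp]
      simp only [Functor.map_comp, Category.assoc] at h' ⊢
      exact h'
    have hn := (DerivedCategory.singleFunctorCompHomologyFunctorIso (ModuleCat.{u} A) p).hom.naturality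
      (ψ ≫ eH.inv)
    rw [Functor.comp_map, h2, zero_comp] at hn
    have : ψ ≫ eH.inv = 0 := (Preadditive.IsIso.comp_left_eq_zero _ _).1 hn.symm
    exact (Preadditive.IsIso.comp_right_eq_zero _ _).1 this
  let d : ((DerivedCategory.singleFunctor (ModuleCat.{u} A) p).obj Q)⟦p⟧ ≅ (DerivedCategory.singleFunctor (ModuleCat.{u} A) 0).obj Q :=
    ((DerivedCategory.singleFunctors (ModuleCat.{u} A)).shiftIso p 0 p (by omega)).app Q
  refine ⟨d.inv ≫ (shiftFunctor (DerivedCategory (ModuleCat.{u} A)) p).map g, fun h => hg ?_⟩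
  exact (shiftFunctor (DerivedCategory (ModuleCat.{u} A)) p).map_injective
    (by rw [Functor.map_zero]; exact (Preadditive.IsIso.comp_left_eq_zero _ _).1 h)

/-- Nilpotency on the ends passes to the middle. -/
lemma nil_middle {M₁ M₂ M₃ : Type u} [AddCommGroup M₁] [Module A M₁] [AddCommGroup M₂] [Module A M₂]
    [AddCommGroup M₃] [Module A M₃] (a : M₁ →ₗ[A] M₂) (b : M₂ →ₗ[A] M₃)
    (hex : ∀ y, b y = 0 → ∃ x, a x = y) (g : A) (h₁ : ∀ v : M₁, ∃ N : ℕ, g ^ N • v = 0)
    (h₃ : ∀ v : M₃, ∃ N : ℕ, g ^ N • v = 0) (y : M₂) : ∃ N : ℕ, g ^ N • y = 0 := by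
  obtain ⟨N₁, hN₁⟩ := h₃ (b y)
  obtain ⟨x, hx⟩ := hex (g ^ N₁ • y) (by rw [map_smul, hN₁])
  obtain ⟨N₂, hN₂⟩ := h₁ x
  exact ⟨N₂ + N₁, by rw [pow_add, mul_smul, ← hx, ← map_smul, hN₂, map_zero]⟩

/-- An extension of finite modules over a noetherian ring is finite. -/
lemma finite_middle [IsNoetherianRing A] {M₁ M₂ M₃ : Type u} [AddCommGroup M₁] [Module A M₁]
    [AddCommGroup M₂] [Module A M₂] [AddCommGroup M₃] [Module A M₃] [Module.Finite A M₁]
    [Module.Finite A M₃] (a : M₁ →ₗ[A] M₂) (b : M₂ →ₗ[A] M₃)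
    (hex : ∀ y, b y = 0 ↔ ∃ x, a x = y) : Module.Finite A M₂ := by
  haveI : Module.Finite A (LinearMap.range b) :=
    Module.Finite.iff_fg.2 (IsNoetherian.noetherian (LinearMap.range b))
  refine Module.Finite.of_exact (f := a) (g := b.rangeRestrict) (fun y => ?_)
    b.surjective_rangeRestrict
  show b.rangeRestrict y = 0 ↔ _
  rw [← Subtype.coe_inj]
  exact hex y

/-- Downward induction on the generators of the maximal ideal. -/
theorem exists_smul_eq_zero_aux [IsNoetherianRing A] (m : Ideal A) [hm : m.IsMaximal]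
    (T : Finset A) (hT : Ideal.span (T : Set A) = m) (Q : ModuleCat.{u} A)
    (π : Q →ₗ[A] A ⧸ m) (hπ : Function.Surjective π) :
    ∀ (S : Finset A), S ⊆ T → ∀ (E : (DerivedCategory (ModuleCat.{u} A))) (a : ℤ), E.IsGE a →
      (∀ i : ℤ, Module.Finite A ((DerivedCategory.homologyFunctor (ModuleCat.{u} A) i).obj E)) →
      (∀ (i : ℤ) (φ : (DerivedCategory.singleFunctor (ModuleCat.{u} A) 0).obj Q ⟶ (shiftFunctor (DerivedCategory (ModuleCat.{u} A)) i).obj E), φ = 0) →
      (∀ f ∈ T, f ∉ S → ∀ (i : ℤ) (v : (DerivedCategory.homologyFunctor (ModuleCat.{u} A) i).obj E), ∃ N : ℕ, f ^ N • v = 0) →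
      ∀ (i : ℤ) (v : (DerivedCategory.homologyFunctor (ModuleCat.{u} A) i).obj E), ∃ r ∉ m, r • v = 0 := by
  classical
  intro S
  induction S using Finset.induction_on with
  | empty =>
    intro _ E a hE hfin hhom hnil i v
    refine ⟨1, m.ne_top_iff_one.1 hm.ne_top, ?_⟩
    rw [one_smul]
    suffices ∀ i, Subsingleton ((DerivedCategory.homologyFunctor (ModuleCat.{u} A) i).obj E) from @Subsingleton.elim _ (this i) _ _
    by_contra hne
    push Not at hne
    obtain ⟨i₀, hi₀⟩ := hne
    have hlow : ∀ j, Nontrivial ((DerivedCategory.homologyFunctor (ModuleCat.{u} A) j).obj E) → a ≤ j := fun j hj => by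
      by_contra hlt
      exact not_subsingleton_iff_nontrivial.2 hj
        (ModuleCat.subsingleton_of_isZero (DerivedCategory.isZero_of_isGE E a j (by omega)))
    obtain ⟨p, hp, hmin⟩ := Int.exists_least_of_bdd (P := fun j => Nontrivial ((DerivedCategory.homologyFunctor (ModuleCat.{u} A) j).obj E))
      ⟨a, hlow⟩ ⟨i₀, hi₀⟩
    haveI : E.IsGE p := (DerivedCategory.isGE_iff _ _).2 fun j hj => by
      haveI : Subsingleton ((DerivedCategory.homologyFunctor (ModuleCat.{u} A) j).obj E) := not_nontrivial_iff_subsingleton.1 fun h => by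
        have := hmin j h; omega
      exact ModuleCat.isZero_of_subsingleton _
    haveI := hp
    obtain ⟨w, hw, hwT⟩ := exists_killed (M := (DerivedCategory.homologyFunctor (ModuleCat.{u} A) p).obj E) T
      fun f hf => hnil f hf (Finset.notMem_empty f) p
    have hker : m ≤ LinearMap.ker (LinearMap.toSpanSingleton A ((DerivedCategory.homologyFunctor (ModuleCat.{u} A) p).obj E) w) := by
      rw [← hT, Ideal.span_le]
      intro f hf
      simpa [LinearMap.mem_ker] using hwT f hf
    let ψ : (Q : Type u) →ₗ[A] (DerivedCategory.homologyFunctor (ModuleCat.{u} A) p).obj E :=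
      (Submodule.liftQ m (LinearMap.toSpanSingleton A ((DerivedCategory.homologyFunctor (ModuleCat.{u} A) p).obj E) w) hker).comp π
    obtain ⟨φ, hφ⟩ := exists_hom_to_shift E p Q (ModuleCat.ofHom ψ) fun h => by
      obtain ⟨q, hq⟩ := hπ (Ideal.Quotient.mk m 1)
      have := LinearMap.congr_fun (congrArg ModuleCat.Hom.hom h) q
      apply hw
      have h2 : Submodule.liftQ m (LinearMap.toSpanSingleton A _ w) hker (π q) = 0 := this
      rw [hq] at h2
      have h3 : (1 : A) • w = 0 := h2
      rwa [one_smul] at h3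
    exact hφ (hhom p φ)
  | @insert f S hfS ih =>
    intro hST E a hE hfin hhom hnil
    have hf : f ∈ T := hST (Finset.mem_insert_self f S)
    have hfm : f ∈ m := by rw [← hT]; exact Ideal.subset_span hf
    obtain ⟨C, g, d, hTri⟩ := distinguished_cocone_triangle (f • 𝟙 E)
    set Tr := Triangle.mk (f • 𝟙 E) g d
    have hfmap : ∀ (i : ℤ) (v : (DerivedCategory.homologyFunctor (ModuleCat.{u} A) i).obj E),
        ((DerivedCategory.homologyFunctor (ModuleCat.{u} A) i).map Tr.mor₁).hom v = f • v := fun i v => by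
      show ((DerivedCategory.homologyFunctor (ModuleCat.{u} A) i).map (f • 𝟙 E)).hom v = f • v
      rw [homology_map_smul_id]
      rfl
    have h2 : ∀ (i : ℤ) (y : (DerivedCategory.homologyFunctor (ModuleCat.{u} A) i).obj E),
        ((DerivedCategory.homologyFunctor (ModuleCat.{u} A) i).map Tr.mor₂).hom y = 0 ↔ ∃ x, ((DerivedCategory.homologyFunctor (ModuleCat.{u} A) i).map Tr.mor₁).hom x = y := fun i y =>
      ⟨fun h => (ShortComplex.moduleCat_exact_iff _).1
        (DerivedCategory.HomologySequence.exact₂ Tr hTri i) y h, by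
        rintro ⟨x, rfl⟩
        rw [← ModuleCat.comp_apply, ← Functor.map_comp, comp_distTriang_mor_zero₁₂ _ hTri,
          Functor.map_zero]
        rfl⟩
    have h3 : ∀ (i : ℤ) (y : (DerivedCategory.homologyFunctor (ModuleCat.{u} A) i).obj C),
        (DerivedCategory.HomologySequence.δ Tr i (i + 1) rfl).hom y = 0 ↔
          ∃ x, ((DerivedCategory.homologyFunctor (ModuleCat.{u} A) i).map Tr.mor₂).hom x = y := fun i y =>
      ⟨fun h => (ShortComplex.moduleCat_exact_iff _).1
        (DerivedCategory.HomologySequence.exact₃ Tr hTri i (i + 1) rfl) y h, by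
        rintro ⟨x, rfl⟩
        rw [← ModuleCat.comp_apply, DerivedCategory.HomologySequence.comp_δ Tr hTri i (i + 1) rfl]
        rfl⟩
    -- the cone is bounded below with finite homology
    haveI hC : C.IsGE (a - 1) := (DerivedCategory.isGE_iff _ _).2 fun j hj => by
      haveI : Subsingleton ((DerivedCategory.homologyFunctor (ModuleCat.{u} A) j).obj E) :=
        ModuleCat.subsingleton_of_isZero (DerivedCategory.isZero_of_isGE E a j (by omega))
      haveI : Subsingleton ((DerivedCategory.homologyFunctor (ModuleCat.{u} A) (j + 1)).obj E) :=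
        ModuleCat.subsingleton_of_isZero (DerivedCategory.isZero_of_isGE E a (j + 1) (by omega))
      haveI : Subsingleton ((DerivedCategory.homologyFunctor (ModuleCat.{u} A) j).obj C) := subsingleton_of_forall_eq 0 fun y => by
        obtain ⟨x, rfl⟩ := (h3 j y).1
          (Subsingleton.elim (α := (DerivedCategory.homologyFunctor (ModuleCat.{u} A) (j + 1)).obj E) _ _)
        rw [Subsingleton.elim (α := (DerivedCategory.homologyFunctor (ModuleCat.{u} A) j).obj E) x 0]
        exact map_zero _
      exact ModuleCat.isZero_of_subsingleton _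
    have hCfin : ∀ i : ℤ, Module.Finite A ((DerivedCategory.homologyFunctor (ModuleCat.{u} A) i).obj C) := fun i =>
      haveI := hfin i
      haveI := hfin (i + 1)
      finite_middle (A := A) (M₁ := (DerivedCategory.homologyFunctor (ModuleCat.{u} A) i).obj E) (M₂ := (DerivedCategory.homologyFunctor (ModuleCat.{u} A) i).obj C) (M₃ := (DerivedCategory.homologyFunctor (ModuleCat.{u} A) (i + 1)).obj E)
        ((DerivedCategory.homologyFunctor (ModuleCat.{u} A) i).map Tr.mor₂).hom (DerivedCategory.HomologySequence.δ Tr i (i + 1) rfl).hom (h3 i)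
    -- maps from the point module into the cone vanish
    have hChom : ∀ (i : ℤ) (φ : (DerivedCategory.singleFunctor (ModuleCat.{u} A) 0).obj Q ⟶ (shiftFunctor (DerivedCategory (ModuleCat.{u} A)) i).obj C), φ = 0 := by
      intro i φ
      have hTi := Triangle.shift_distinguished Tr hTri i
      let ei : ((E⟦i⟧)⟦(1 : ℤ)⟧ : (DerivedCategory (ModuleCat.{u} A))) ≅ E⟦i + 1⟧ :=
        ((shiftFunctorAdd' (DerivedCategory (ModuleCat.{u} A)) i 1 (i + 1) rfl).app E).symm
      have hz : φ ≫ ((Triangle.shiftFunctor (DerivedCategory (ModuleCat.{u} A)) i).obj Tr).mor₃ = 0 := by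
        rw [← cancel_mono ei.hom, zero_comp]
        exact hhom (i + 1) _
      obtain ⟨ψ, hψ⟩ := Triangle.coyoneda_exact₃ _ hTi φ hz
      rw [hψ, hhom i ψ, zero_comp]
    have hCnil : ∀ g' ∈ T, g' ∉ S → ∀ (i : ℤ) (v : (DerivedCategory.homologyFunctor (ModuleCat.{u} A) i).obj C), ∃ N : ℕ, g' ^ N • v = 0 := by
      intro g' hg' hg'S i v
      rcases eq_or_ne g' f with rfl | hne
      · refine ⟨2, ?_⟩
        have hd : (DerivedCategory.HomologySequence.δ Tr i (i + 1) rfl).hom (g' • v) = 0 := by
          rw [map_smul, ← hfmap (i + 1)]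
          rw [← ModuleCat.comp_apply, DerivedCategory.HomologySequence.δ_comp Tr hTri i (i + 1) rfl]
          rfl
        obtain ⟨x, hx⟩ := (h3 i _).1 hd
        rw [pow_two, mul_smul, ← hx]
        exact (((DerivedCategory.homologyFunctor (ModuleCat.{u} A) i).map Tr.mor₂).hom.map_smul g' x).symm.trans
          ((h2 i _).2 ⟨x, hfmap i x⟩)
      · have hnm : g' ∉ insert f S := by simp [hne, hg'S]
        exact nil_middle (A := A) (M₁ := (DerivedCategory.homologyFunctor (ModuleCat.{u} A) i).obj E) (M₂ := (DerivedCategory.homologyFunctor (ModuleCat.{u} A) i).obj C)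
          (M₃ := (DerivedCategory.homologyFunctor (ModuleCat.{u} A) (i + 1)).obj E) ((DerivedCategory.homologyFunctor (ModuleCat.{u} A) i).map Tr.mor₂).hom
          (DerivedCategory.HomologySequence.δ Tr i (i + 1) rfl).hom (fun y => (h3 i y).1) g'
          (hnil g' hg' hnm i) (hnil g' hg' hnm (i + 1)) v
    have key := ih (fun x hx => hST (Finset.mem_insert_of_mem hx)) C (a - 1) hC hCfin hChom hCnil
    intro i v
    haveI := hfin i
    have hsub : (⊤ : Submodule A ((DerivedCategory.homologyFunctor (ModuleCat.{u} A) i).obj E)) ≤ m • ⊤ := by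
      intro w _
      obtain ⟨r, hr, hrw⟩ := key i (((DerivedCategory.homologyFunctor (ModuleCat.{u} A) i).map Tr.mor₂).hom w)
      obtain ⟨x, hx⟩ : ∃ x : (DerivedCategory.homologyFunctor (ModuleCat.{u} A) i).obj E, f • x = r • w := by
        obtain ⟨x, hx⟩ := (h2 i (r • w)).1
          ((((DerivedCategory.homologyFunctor (ModuleCat.{u} A) i).map Tr.mor₂).hom.map_smul r w).trans hrw)
        exact ⟨x, (hfmap i x).symm.trans hx⟩
      obtain ⟨s, μ, hμ, hsum⟩ := hm.exists_inv hr
      have : w = s • (f • x) + μ • w := by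
        rw [hx, ← mul_smul, ← add_smul, hsum, one_smul]
      rw [this]
      exact Submodule.add_mem _ (Submodule.smul_mem _ _
        (Submodule.smul_mem_smul hfm Submodule.mem_top))
        (Submodule.smul_mem_smul hμ Submodule.mem_top)
    obtain ⟨r, hr, hr0⟩ := Submodule.exists_sub_one_mem_and_smul_eq_zero_of_fg_of_le_smul m ⊤
      Module.Finite.fg_top hsub
    exact ⟨r, fun h => m.ne_top_iff_one.1 hm.ne_top (by simpa using m.sub_mem h hr),
      hr0 v Submodule.mem_top⟩

/-- **A closed point detects.** -/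
theorem exists_smul_eq_zero [IsNoetherianRing A] (m : Ideal A) [hm : m.IsMaximal]
    (Q : ModuleCat.{u} A) [Module.Finite A Q] (hQ : ∀ r ∉ m, ∃ q : Q, r • q ≠ 0)
    (E : (DerivedCategory (ModuleCat.{u} A))) (a : ℤ) [E.IsGE a] (hfin : ∀ i : ℤ, Module.Finite A ((DerivedCategory.homologyFunctor (ModuleCat.{u} A) i).obj E))
    (hhom : ∀ (i : ℤ) (φ : (DerivedCategory.singleFunctor (ModuleCat.{u} A) 0).obj Q ⟶ (shiftFunctor (DerivedCategory (ModuleCat.{u} A)) i).obj E), φ = 0)
    (i : ℤ) (v : (DerivedCategory.homologyFunctor (ModuleCat.{u} A) i).obj E) : ∃ r ∉ m, r • v = 0 := by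
  classical
  letI : Field (A ⧸ m) := Ideal.Quotient.field m
  obtain ⟨T, hT⟩ := (IsNoetherian.noetherian m : m.FG)
  have hne : (m • ⊤ : Submodule A Q) ≠ ⊤ := fun h => by
    obtain ⟨r, hr, hr0⟩ := Submodule.exists_sub_one_mem_and_smul_eq_zero_of_fg_of_le_smul m ⊤
      Module.Finite.fg_top h.ge
    obtain ⟨q, hq⟩ := hQ r fun h' => m.ne_top_iff_one.1 hm.ne_top (by simpa using m.sub_mem h' hr)
    exact hq (hr0 q Submodule.mem_top)
  haveI : Nontrivial ((Q : Type u) ⧸ (m • ⊤ : Submodule A Q)) := Submodule.Quotient.nontrivial_iff.2 hne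
  obtain ⟨w, hw⟩ := exists_ne (0 : (Q : Type u) ⧸ (m • ⊤ : Submodule A Q))
  obtain ⟨χ, hχ⟩ := Module.Projective.exists_dual_ne_zero (A ⧸ m) hw
  let π : (Q : Type u) →ₗ[A] A ⧸ m := (χ.restrictScalars A).comp (m • ⊤ : Submodule A Q).mkQ
  have hπ : Function.Surjective π := by
    intro c
    obtain ⟨w₀, rfl⟩ := Submodule.mkQ_surjective _ w
    obtain ⟨b, hb⟩ := Ideal.Quotient.mk_surjective
      (c * (χ ((m • ⊤ : Submodule A Q).mkQ w₀))⁻¹)
    refine ⟨b • w₀, ?_⟩
    have hpi : π w₀ = χ ((m • ⊤ : Submodule A Q).mkQ w₀) := rfl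
    rw [map_smul, hpi, Algebra.smul_def, Ideal.Quotient.algebraMap_eq, hb, mul_assoc,
      inv_mul_cancel₀ hχ, mul_one]
  exact exists_smul_eq_zero_aux m T hT Q π hπ T subset_rfl E a inferInstance hfin hhom
    (fun f hf hf' => absurd hf hf') i v

end Groth.Agent.PointDetect7
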